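import Groth.Agent.Lib.PerturbH7.Defect
import Groth.Agent.Lib.NagataH7.Descent
import Groth.Agent.Lib.EtRamH7.ASCases

/-!
# Replacing a purely inseparable step of degree `p` in a solution by a separable one
-/

universe u

open IsLocalRing Polynomial
open scoped TensorProduct

namespace Groth.Agent.PerturbH7

/-- A separable polynomial `X^p - γ^(p-1) X - a` without root gives a separable extension of degree `p`. -/
theorem exists_as_extension {p : ℕ} (hp : p.Prime) (F : Type u) [Field F] [CharP F p] (γ a : F) (hγ : γ ≠ 0)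
    (hroot : ∀ b : F, b ^ p - γ ^ (p - 1) * b ≠ a) :
    ∃ (E : Type u) (_ : Field E) (_ : Algebra F E) (r : E), FiniteDimensional F E ∧ Algebra.IsSeparable F E ∧
      Module.finrank F E = p ∧ LinearIndependent F (fun i : Fin p => r ^ (i : ℕ)) ∧
      r ^ p = algebraMap F E a + algebraMap F E (γ ^ (p - 1)) * r := by
  obtain ⟨z₀, hz₀⟩ := IsAlgClosed.exists_aeval_eq_zero (AlgebraicClosure F)
    (X ^ p - X - C (a / γ ^ p)) (by
      rw [degree_eq_natDegree (by
        intro h
        have := congrArg (fun q : F[X] => q.coeff p) h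
        simp [coeff_X, hp.one_lt.ne, hp.ne_zero, coeff_C] at this)]
      have : (X ^ p - X - C (a / γ ^ p) : F[X]).natDegree = p := by
        rw [sub_sub]
        exact natDegree_sub_eq_left_of_natDegree_lt (by rw [natDegree_X_add_C, natDegree_X_pow]; exact hp.one_lt) |>.trans
          (natDegree_X_pow p)
      rw [this]; exact_mod_cast hp.ne_zero)
  let E := IntermediateField.adjoin F {z₀}
  let z : E := ⟨z₀, IntermediateField.mem_adjoin_simple_self F z₀⟩
  have hz : z ^ p - z = algebraMap F E (a / γ ^ p) := by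
    refine Subtype.ext ?_
    have : z₀ ^ p - z₀ - algebraMap F (AlgebraicClosure F) (a / γ ^ p) = 0 := by simpa using hz₀
    exact sub_eq_zero.1 this
  have hgen : IntermediateField.adjoin F ({z} : Set E) = ⊤ := by
    refine IntermediateField.map_injective E.val ?_
    rw [IntermediateField.adjoin_map, Set.image_singleton, ← AlgHom.fieldRange_eq_map, IntermediateField.fieldRange_val]
    rfl
  obtain ⟨hfd, hgal, hrk⟩ := EtRamH7.as_galois hp F E (a / γ ^ p) z hz hgen
  haveI := hfd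
  haveI := hgal
  have hγp : γ ^ p = γ ^ (p - 1) * γ := by rw [← pow_succ, Nat.sub_add_cancel hp.pos]
  have hp1 : Module.finrank F E = p := by
    refine hrk.resolve_left fun h1 => ?_
    have hint : IsIntegral F z := IsIntegral.of_finite F z
    have h2 := IntermediateField.adjoin.finrank hint
    rw [hgen, IntermediateField.finrank_top', h1] at h2
    obtain ⟨b, hb⟩ := (minpoly.natDegree_eq_one_iff.1 h2.symm : z ∈ (algebraMap F E).range)
    rw [← hb, ← map_pow, ← map_sub] at hz
    refine hroot (γ * b) ?_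
    have h3 := (algebraMap F E).injective hz
    rw [mul_pow, ← mul_assoc, ← hγp, ← mul_sub, h3, mul_div_cancel₀ _ (pow_ne_zero _ hγ)]
  refine ⟨E, inferInstance, inferInstance, algebraMap F E γ * z, hfd, hgal.to_isSeparable, hp1, ?_, ?_⟩
  · have hγE : algebraMap F E γ ≠ 0 := (_root_.map_ne_zero _).2 hγ
    have hgen' : IntermediateField.adjoin F ({algebraMap F E γ * z} : Set E) = ⊤ := by
      rw [eq_top_iff, ← hgen, IntermediateField.adjoin_simple_le_iff]
      have := mul_mem (IntermediateField.algebraMap_mem (IntermediateField.adjoin F {algebraMap F E γ * z}) γ⁻¹)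
        (IntermediateField.mem_adjoin_simple_self F (algebraMap F E γ * z))
      rwa [map_inv₀, ← mul_assoc, inv_mul_cancel₀ hγE, one_mul] at this
    have h2 := IntermediateField.adjoin.finrank (IsIntegral.of_finite F (algebraMap F E γ * z))
    rw [hgen', IntermediateField.finrank_top', hp1] at h2
    have := linearIndependent_pow (K := F) (algebraMap F E γ * z)
    rw [← h2] at this
    exact this
  · rw [mul_pow, ← mul_assoc, ← map_mul, ← hγp, map_pow, ← sub_eq_iff_eq_add, ← mul_sub, hz, ← map_pow,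
      ← map_mul, mul_div_cancel₀ _ (pow_ne_zero _ hγ)]

variable (A B K L : Type u) [CommRing A] [IsDomain A] [IsDiscreteValuationRing A]
    [CommRing B] [IsDomain B] [IsDiscreteValuationRing B] [Algebra A B] [IsLocalHom (algebraMap A B)]
    [Field K] [Field L] [Algebra A K] [IsFractionRing A K] [Algebra B L] [IsFractionRing B L]
    [Algebra K L] [Algebra A L] [IsScalarTower A K L] [IsScalarTower A B L] [Algebra.IsGeometricallyReduced K L]

theorem exists_separable_step {p : ℕ} (hp : p.Prime) [CharP K p] (hinj : Function.Injective (algebraMap A B))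
    (hB : CAlg.IsNagata B) (K₁ K₂ : Type u) [Field K₁] [Field K₂] [Algebra K K₁] [Algebra K K₂] [Algebra K₁ K₂]
    [IsScalarTower K K₁ K₂] [FiniteDimensional K K₁] [FiniteDimensional K₁ K₂] (hsol : EtRam.IsSolution B K L K₂)
    [IsPurelyInseparable K₁ K₂] (hdeg : Module.finrank K₁ K₂ = p) :
    ∃ (K₃ : Type u) (_ : Field K₃) (_ : Algebra K K₃) (_ : Algebra K₁ K₃) (_ : IsScalarTower K K₁ K₃),
      FiniteDimensional K₁ K₃ ∧ Algebra.IsSeparable K₁ K₃ ∧ EtRam.IsSolution B K L K₃ := by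
  classical
  haveI : Fact p.Prime := ⟨hp⟩
  haveI : CharP K₁ p := charP_of_injective_algebraMap (algebraMap K K₁).injective p
  haveI : CharP K₂ p := charP_of_injective_algebraMap (algebraMap K₁ K₂).injective p
  haveI : ExpChar K₁ p := ExpChar.prime hp
  haveI : ExpChar K₂ p := ExpChar.prime hp
  haveI : FiniteDimensional K K₂ := FiniteDimensional.trans K K₁ K₂
  letI : Algebra A K₁ := ((algebraMap K K₁).comp (algebraMap A K)).toAlgebra
  haveI : IsScalarTower A K K₁ := IsScalarTower.of_algebraMap_eq fun _ => rfl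
  letI : Algebra A K₂ := ((algebraMap K K₂).comp (algebraMap A K)).toAlgebra
  haveI : IsScalarTower A K K₂ := IsScalarTower.of_algebraMap_eq fun _ => rfl
  haveI : IsScalarTower A K₁ K₂ := IsScalarTower.of_algebraMap_eq fun a => by
    show algebraMap K K₂ (algebraMap A K a) = algebraMap K₁ K₂ (algebraMap K K₁ (algebraMap A K a))
    rw [← IsScalarTower.algebraMap_apply K K₁ K₂]
  obtain ⟨π, hπ⟩ := IsDiscreteValuationRing.exists_irreducible A
  have hπm : π ∈ maximalIdeal A := (mem_maximalIdeal π).2 hπ.not_isUnit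
  have hπK : algebraMap A K π ≠ 0 := fun h => hπ.ne_zero ((map_eq_zero_iff _ (IsFractionRing.injective A K)).1 h)
  have hπ₁ : algebraMap A K₁ π ≠ 0 := by
    rw [IsScalarTower.algebraMap_apply A K K₁]; exact (_root_.map_ne_zero _).2 hπK
  have hπ₂ : algebraMap A K₂ π ≠ 0 := by
    rw [IsScalarTower.algebraMap_apply A K₁ K₂]; exact (_root_.map_ne_zero _).2 hπ₁
  have hπB : algebraMap A B π ≠ 0 := fun h => hπ.ne_zero ((map_eq_zero_iff _ hinj).1 h)
  -- an integral generator
  obtain ⟨x₀, hx₀⟩ : ∃ x : K₂, x ∉ (algebraMap K₁ K₂).range := by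
    by_contra h
    push Not at h
    have : Module.finrank K₁ K₂ = 1 :=
      finrank_eq_one 1 one_ne_zero fun y => (h y).elim fun c hc => ⟨c, by rw [Algebra.smul_def, hc, mul_one]⟩
    rw [hdeg] at this
    exact hp.one_lt.ne' this
  obtain ⟨mx, hmx⟩ := exists_pow_isIntegral A K K₂ hπm hπ.ne_zero x₀
  set x : K₂ := algebraMap A K₂ π ^ mx * x₀ with hxdef
  have hxnot : x ∉ (algebraMap K₁ K₂).range := by
    rintro ⟨c, hc⟩
    refine hx₀ ⟨(algebraMap A K₁ π ^ mx)⁻¹ * c, ?_⟩
    rw [map_mul, map_inv₀, map_pow, ← IsScalarTower.algebraMap_apply, hc, hxdef, inv_mul_cancel_left₀ (pow_ne_zero _ hπ₂)]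
  have hxint : IsIntegral A x := hmx
  obtain ⟨n, y, hy⟩ := IsPurelyInseparable.minpoly_eq_X_pow_sub_C K₁ p x
  have hdx : (minpoly K₁ x).natDegree = p := by
    have h1 := IntermediateField.adjoin.finrank (IsIntegral.of_finite K₁ x)
    have h2 : (minpoly K₁ x).natDegree ∣ p := by
      rw [← h1, ← hdeg]
      exact ⟨_, (Module.finrank_mul_finrank K₁ (IntermediateField.adjoin K₁ {x}) K₂).symm⟩
    rcases (Nat.dvd_prime hp).1 h2 with h | h
    · exact absurd (minpoly.natDegree_eq_one_iff.1 h) hxnot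
    · exact h
  rw [hy, natDegree_X_pow_sub_C] at hdx
  obtain rfl : n = 1 := Nat.pow_eq_self_iff hp.one_lt |>.1 hdx
  rw [pow_one] at hy
  have hxp : x ^ p = algebraMap K₁ K₂ y := by
    have := minpoly.aeval K₁ x
    rw [hy] at this
    simpa [sub_eq_zero] using this
  have hyint : IsIntegral A y := (isIntegral_algebraMap_iff (algebraMap K₁ K₂).injective).1 (hxp ▸ hxint.pow p)
  have hlix : LinearIndependent K₁ fun i : Fin p => x ^ (i : ℕ) := by
    have := linearIndependent_pow (K := K₁) x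
    rw [hy, natDegree_X_pow_sub_C] at this
    exact this
  haveI : Nonempty (Fin p) := ⟨⟨0, hp.pos⟩⟩
  let b₂ := basisOfLinearIndependentOfCardEqFinrank hlix (by rw [Fintype.card_fin, hdeg])
  have hb₂ : ∀ i : Fin p, b₂ i = x ^ (i : ℕ) := fun i => by
    simp [b₂, coe_basisOfLinearIndependentOfCardEqFinrank]
  -- finiteness of the integral closures
  haveI : IsReduced (L ⊗[K] K₂) :=
    isReduced_of_injective (Algebra.TensorProduct.comm K L K₂) (Algebra.TensorProduct.comm K L K₂).injective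
  haveI : Module.Finite A (integralClosure A K₂) := NagataH7.finite_integralClosure_descends A B K L hB K₂
  haveI : Module.Finite B (integralClosure B (L ⊗[K] K₂)) :=
    NagataH7.finite_integralClosure_artinian B L (L ⊗[K] K₂) (hB.2 ⊥)
  -- the defect
  let H₁ : K₂ →ₗ[K₁] K₂ →ₗ[K₁] K₂ := b₂.constr K₁ fun i => b₂.constr K₁ fun j =>
    if (i : ℕ) + (j : ℕ) < p then 0 else -x ^ ((i : ℕ) + (j : ℕ) - p + 1)
  let H : K₂ →ₗ[K] K₂ →ₗ[K] K₂ := LinearMap.mk₂ K (fun u v => H₁ u v)
    (fun u u' v => by simp) (fun r u v => by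
      rw [← IsScalarTower.algebraMap_smul K₁ r u, map_smul, LinearMap.smul_apply, IsScalarTower.algebraMap_smul])
    (fun u v v' => by simp) (fun r u v => by
      rw [← IsScalarTower.algebraMap_smul K₁ r v, map_smul, IsScalarTower.algebraMap_smul])
  obtain ⟨N₀, hN₀⟩ := isSolution_stable (L := L) (B := B) π hπ hπB H hsol
  -- the coordinate of `x` on integral elements
  let i₁ : Fin p := ⟨1, hp.one_lt⟩
  obtain ⟨m, hm⟩ : ∃ m, ∀ z : K₂, IsIntegral A z → IsIntegral A (algebraMap A K₁ π ^ m * b₂.coord i₁ z) := by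
    have hfg : (integralClosure A K₂).toSubmodule.FG := Module.Finite.iff_fg.1 ‹_›
    obtain ⟨G, hG⟩ := hfg
    choose f hf using fun g : K₂ => exists_pow_isIntegral A K K₁ hπm hπ.ne_zero (b₂.coord i₁ g)
    refine ⟨∑ g ∈ G, f g, fun z hz => ?_⟩
    let Nm : Submodule A K₂ := (integralClosure A K₁).toSubmodule.comap
      ((LinearMap.mulLeft A (algebraMap A K₁ π ^ ∑ g ∈ G, f g)).comp ((b₂.coord i₁).restrictScalars A))
    refine (show (integralClosure A K₂).toSubmodule ≤ Nm from ?_) hz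
    rw [← hG, Submodule.span_le]
    intro g hg
    show IsIntegral A (algebraMap A K₁ π ^ (∑ g ∈ G, f g) * b₂.coord i₁ g)
    obtain ⟨d, hd⟩ := Nat.exists_eq_add_of_le (Finset.single_le_sum (f := f) (fun _ _ => Nat.zero_le _) hg)
    rw [hd, add_comm, pow_add, mul_assoc]
    exact (isIntegral_algebraMap.pow d).mul (hf g)
  -- the perturbation
  set Nγ := N₀ + p * (m + 1) with hNγ
  set γ : K₁ := algebraMap A K₁ π ^ Nγ with hγdef
  have hγ : γ ≠ 0 := pow_ne_zero _ hπ₁
  have hc : γ ^ (p - 1) = algebraMap A K₁ π ^ (Nγ * (p - 1)) := (pow_mul _ _ _).symm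
  have hp12 : 1 ≤ p - 1 := by have := hp.two_le; omega
  have hbig : Nγ ≤ Nγ * (p - 1) := Nat.le_mul_of_pos_right _ hp12
  have hroot : ∀ b : K₁, b ^ p - γ ^ (p - 1) * b ≠ y := by
    intro b hb
    have hbint : IsIntegral A b := by
      have h0 : IsIntegral (integralClosure A K₁) b := by
        let cc : integralClosure A K₁ := ⟨γ ^ (p - 1), hc ▸ isIntegral_algebraMap.pow _⟩
        let yy : integralClosure A K₁ := ⟨y, hyint⟩
        refine ⟨X ^ p - (C cc * X + C yy), monic_X_pow_sub ((degree_linear_le).trans_lt (by exact_mod_cast hp.one_lt)), ?_⟩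
        simp only [eval₂_sub, eval₂_add, eval₂_mul, eval₂_X_pow, eval₂_C, eval₂_X]
        show b ^ p - (γ ^ (p - 1) * b + y) = 0
        rw [← hb]; ring
      exact isIntegral_trans (A := integralClosure A K₁) b h0
    -- `(x - b) / π^(m+1)` is integral
    set z : K₂ := (algebraMap A K₂ π ^ (m + 1))⁻¹ * (x - algebraMap K₁ K₂ b) with hzdef
    have hle : p * (m + 1) ≤ Nγ * (p - 1) := le_trans (by omega) hbig
    obtain ⟨d, hd⟩ := Nat.exists_eq_add_of_le hle
    have hzp : z ^ p = -(algebraMap A K₂ π ^ d * algebraMap K₁ K₂ b) := by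
      rw [hzdef, mul_pow, sub_pow_char, hxp, ← map_pow (algebraMap K₁ K₂) b, ← map_sub, ← hb, sub_sub_cancel_left, map_neg, map_mul, hc,
        map_pow, ← IsScalarTower.algebraMap_apply, hd, inv_pow, ← pow_mul, mul_comm (m + 1) p, pow_add, mul_neg,
        mul_assoc, inv_mul_cancel_left₀ (pow_ne_zero _ hπ₂)]
    have hzint : IsIntegral A z :=
      IsIntegral.of_pow hp.pos (hzp ▸ ((isIntegral_algebraMap.pow d).mul (hbint.algebraMap)).neg)
    have hcoord : b₂.coord i₁ z = (algebraMap A K₁ π ^ (m + 1))⁻¹ := by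
      have hz' : z = (algebraMap A K₁ π ^ (m + 1))⁻¹ • (b₂ i₁ - b • b₂ ⟨0, hp.pos⟩) := by
        rw [hb₂, hb₂, hzdef, Algebra.smul_def, map_inv₀, map_pow, ← IsScalarTower.algebraMap_apply, pow_one, pow_zero,
          Algebra.smul_def, mul_one]
      rw [hz', map_smul, map_sub, map_smul]
      simp [Module.Basis.coord_apply, Finsupp.single_apply, i₁, Fin.ext_iff]
    have h2 := hm z hzint
    rw [hcoord, show algebraMap A K₁ π ^ m * (algebraMap A K₁ π ^ (m + 1))⁻¹ = (algebraMap A K₁ π)⁻¹ by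
      rw [pow_succ, mul_inv_rev, mul_left_comm, mul_inv_cancel₀ (pow_ne_zero _ hπ₁), mul_one]] at h2
    rw [show (algebraMap A K₁ π)⁻¹ = algebraMap K K₁ (algebraMap A K π)⁻¹ by
      rw [map_inv₀, ← IsScalarTower.algebraMap_apply]] at h2
    obtain ⟨a, ha⟩ := IsIntegrallyClosed.isIntegral_iff.1 ((isIntegral_algebraMap_iff (algebraMap K K₁).injective).1 h2)
    refine hπ.not_isUnit (IsUnit.of_mul_eq_one a (IsFractionRing.injective A K ?_))
    rw [map_mul, ha, mul_inv_cancel₀ hπK, map_one]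
  obtain ⟨K₃, _, _, r, hfd₃, hsep, hdeg₃, hlir, hr⟩ := exists_as_extension hp K₁ γ y hγ hroot
  haveI := hfd₃
  let b₃ := basisOfLinearIndependentOfCardEqFinrank hlir (by rw [Fintype.card_fin, hdeg₃])
  have hb₃ : ∀ i : Fin p, b₃ i = r ^ (i : ℕ) := fun i => by
    simp [b₃, coe_basisOfLinearIndependentOfCardEqFinrank]
  let ψ₁ : K₂ ≃ₗ[K₁] K₃ := b₂.equiv b₃ (Equiv.refl _)
  have hψpow : ∀ k, k < p → ψ₁ (x ^ k) = r ^ k := fun k hk => by
    rw [← hb₂ ⟨k, hk⟩, Module.Basis.equiv_apply]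
    exact hb₃ ⟨k, hk⟩
  letI : Algebra K K₃ := ((algebraMap K₁ K₃).comp (algebraMap K K₁)).toAlgebra
  haveI : IsScalarTower K K₁ K₃ := IsScalarTower.of_algebraMap_eq fun _ => rfl
  haveI : FiniteDimensional K K₃ := FiniteDimensional.trans K K₁ K₃
  letI : Algebra A K₃ := ((algebraMap K K₃).comp (algebraMap A K)).toAlgebra
  haveI : IsScalarTower A K K₃ := IsScalarTower.of_algebraMap_eq fun _ => rfl
  haveI : IsScalarTower A K₁ K₃ := IsScalarTower.of_algebraMap_eq fun a => rfl
  refine ⟨K₃, _, inferInstance, inferInstance, inferInstance, hfd₃, hsep, ?_⟩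
  refine hN₀ (Nγ * (p - 1)) (le_trans (by omega) hbig) K₃ (ψ₁.restrictScalars K) ?_ ?_
  · show ψ₁ 1 = 1
    rw [← pow_zero x, hψpow 0 hp.pos, pow_zero]
  have hci : algebraMap A K₃ π ^ (Nγ * (p - 1)) = algebraMap K₁ K₃ (γ ^ (p - 1)) := by
    rw [hc, map_pow, ← IsScalarTower.algebraMap_apply]
  let F₁ : K₂ →ₗ[K₁] K₂ →ₗ[K₁] K₃ := (LinearMap.mul K₁ K₂).compr₂ ψ₁.toLinearMap
  let F₂ : K₂ →ₗ[K₁] K₂ →ₗ[K₁] K₃ := (LinearMap.mul K₁ K₃).compl₁₂ ψ₁.toLinearMap ψ₁.toLinearMap +
    H₁.compr₂ ((LinearMap.mulLeft K₁ (algebraMap K₁ K₃ (γ ^ (p - 1)))).comp ψ₁.toLinearMap)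
  have hF : F₁ = F₂ := by
    refine b₂.ext fun i => b₂.ext fun j => ?_
    show ψ₁ (b₂ i * b₂ j) = ψ₁ (b₂ i) * ψ₁ (b₂ j) + algebraMap K₁ K₃ (γ ^ (p - 1)) * ψ₁ (H₁ (b₂ i) (b₂ j))
    simp only [H₁, Module.Basis.constr_basis]
    rw [hb₂, hb₂, hψpow _ i.2, hψpow _ j.2, ← pow_add, ← pow_add]
    split_ifs with h
    · rw [hψpow _ h, map_zero, mul_zero, add_zero]
    · push Not at h
      obtain ⟨e, he⟩ := Nat.exists_eq_add_of_le h
      have he' : e + 1 < p := by have := i.2; have := j.2; omega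
      rw [he, Nat.add_sub_cancel_left, pow_add, pow_add r p e, hxp, hr, map_neg, hψpow _ he', ← Algebra.smul_def,
        map_smul, hψpow _ (by omega), Algebra.smul_def, pow_succ]
      ring
  intro u v
  show ψ₁ (u * v) = ψ₁ u * ψ₁ v + algebraMap A K₃ π ^ (Nγ * (p - 1)) * ψ₁ (H₁ u v)
  rw [hci]
  exact LinearMap.congr_fun₂ hF u v

end Groth.Agent.PerturbH7
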