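import Mathlib.RingTheory.IntegralClosure.IsIntegralClosure.Basic
import Mathlib.RingTheory.LocalRing.ResidueField.Basic
import Mathlib.RingTheory.DiscreteValuationRing.Basic
import Mathlib.RingTheory.Valuation.ValuationSubring
import Mathlib.RingTheory.Finiteness.Basic

/-!
# Approximately multiplicative linear equivalences

A linear equivalence `φ : T ≃ T'` of `R`-algebras which is multiplicative modulo `ϖ ^ 2` on the integral closure
of `R` in `T`, supposed finite. The image of this integral closure is then an order in `T'` with the same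
reduction modulo `ϖ ^ 2`.
-/

universe u

open IsLocalRing

namespace Groth.Agent.PerturbH7

variable {R T T' : Type u} [CommRing R] [CommRing T] [CommRing T'] [Algebra R T] [Algebra R T']

/-- `φ` is multiplicative modulo `ϖ ^ 2` on integral elements. -/
structure Approx (ϖ : R) (φ : T ≃ₗ[R] T') : Prop where
  map_one : φ 1 = 1
  mul : ∀ u v, IsIntegral R u → IsIntegral R v →
    ∃ w, IsIntegral R w ∧ φ (u * v) = φ u * φ v + algebraMap R T' (ϖ ^ 2) * φ w
  fin : Module.Finite R (integralClosure R T)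

variable {ϖ : R} {φ : T ≃ₗ[R] T'}

theorem Approx.map_algebraMap (h : Approx ϖ φ) (r : R) : φ (algebraMap R T r) = algebraMap R T' r := by
  rw [Algebra.algebraMap_eq_smul_one, map_smul, h.map_one, ← Algebra.algebraMap_eq_smul_one]

theorem Approx.map_algebraMap_mul (_h : Approx ϖ φ) (r : R) (x : T) :
    φ (algebraMap R T r * x) = algebraMap R T' r * φ x := by
  rw [← Algebra.smul_def, map_smul, Algebra.smul_def]

/-- The image of the integral closure, a subalgebra. -/
def Approx.order (h : Approx ϖ φ) : Subalgebra R T' :=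
  ((integralClosure R T).toSubmodule.map φ.toLinearMap).toSubalgebra
    ⟨1, one_mem (integralClosure R T), h.map_one⟩
    (by
      rintro _ _ ⟨u, hu, rfl⟩ ⟨v, hv, rfl⟩
      obtain ⟨w, hw, he⟩ := h.mul u v hu hv
      refine ⟨u * v - algebraMap R T (ϖ ^ 2) * w, (integralClosure R T).sub_mem ((integralClosure R T).mul_mem hu hv)
        ((integralClosure R T).mul_mem (Subalgebra.algebraMap_mem _ _) hw), ?_⟩
      show φ _ = φ u * φ v
      rw [map_sub, he, h.map_algebraMap_mul]
      ring)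

theorem Approx.mem_order {h : Approx ϖ φ} {x : T'} : x ∈ h.order ↔ ∃ u, IsIntegral R u ∧ φ u = x := Iff.rfl

theorem Approx.apply_mem (h : Approx ϖ φ) {u : T} (hu : IsIntegral R u) : φ u ∈ h.order := ⟨u, hu, rfl⟩

theorem Approx.finite_order (h : Approx ϖ φ) : Module.Finite R h.order := by
  haveI : Module.Finite R (integralClosure R T).toSubmodule := h.fin
  exact Module.Finite.equiv (φ.submoduleMap (integralClosure R T).toSubmodule)

theorem Approx.isIntegral_order (h : Approx ϖ φ) (x : T') (hx : x ∈ h.order) : IsIntegral R x := by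
  haveI := h.finite_order
  exact (IsIntegral.of_finite R (⟨x, hx⟩ : h.order)).map h.order.val

theorem Approx.exists_inv [IsLocalRing R] (h : Approx ϖ φ) (hϖ : ϖ ∈ maximalIdeal R) {x : T'} (hx : x ∈ h.order) :
    ∃ y ∈ h.order, (1 - algebraMap R T' ϖ * x) * y = 1 := by
  haveI := h.finite_order
  haveI : Algebra.IsIntegral R h.order := ⟨fun y => IsIntegral.of_finite R y⟩
  let e : h.order := 1 - algebraMap R h.order ϖ * ⟨x, hx⟩
  have he : IsUnit e := by
    by_contra hne
    obtain ⟨n, hn, hen⟩ := exists_max_ideal_of_mem_nonunits (mem_nonunits_iff.2 hne)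
    have hϖn : algebraMap R h.order ϖ ∈ n := by
      have := IsLocalRing.eq_maximalIdeal (Ideal.isMaximal_comap_of_isIntegral_of_isMaximal (R := R) n)
      rw [← Ideal.mem_comap, this]
      exact hϖ
    have h1 : (1 : h.order) ∈ n := by
      have := add_mem hen (n.mul_mem_right ⟨x, hx⟩ hϖn)
      rwa [sub_add_cancel] at this
    exact hn.ne_top ((Ideal.eq_top_iff_one n).2 h1)
  obtain ⟨y, hy⟩ := he.exists_right_inv
  exact ⟨y.1, y.2, congrArg Subtype.val hy⟩

/-- A factor `t` of `ϖ` stays one. -/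
theorem Approx.dvd_uniformizer [IsLocalRing R] (h : Approx ϖ φ) (hϖ : ϖ ∈ maximalIdeal R) {t u : T}
    (ht : IsIntegral R t) (hu : IsIntegral R u) (htu : algebraMap R T ϖ = t * u) :
    ∃ v ∈ h.order, algebraMap R T' ϖ = φ t * v := by
  obtain ⟨w, hw, he⟩ := h.mul t u ht hu
  rw [← htu, h.map_algebraMap, map_pow] at he
  obtain ⟨y, hy, hxy⟩ := h.exists_inv hϖ (h.apply_mem hw)
  refine ⟨φ u * y, mul_mem (h.apply_mem hu) hy, ?_⟩
  linear_combination y * he - algebraMap R T' ϖ * hxy

/-- A multiple of `t` is mapped to a multiple of its image. -/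
theorem Approx.map_mul_dvd (h : Approx ϖ φ) {t y : T} (ht : IsIntegral R t) (hy : IsIntegral R y)
    {v : T'} (hv : v ∈ h.order) (htv : algebraMap R T' ϖ = φ t * v) :
    ∃ z ∈ h.order, φ (t * y) = φ t * z := by
  obtain ⟨w, hw, he⟩ := h.mul t y ht hy
  refine ⟨φ y + v * algebraMap R T' ϖ * φ w,
    add_mem (h.apply_mem hy) (mul_mem (mul_mem hv (Subalgebra.algebraMap_mem _ _)) (h.apply_mem hw)), ?_⟩
  rw [map_pow] at he
  linear_combination he + algebraMap R T' ϖ * φ w * htv

/-- An element `t` of a subring generating a valued field, whose multiples in the subring are its elements of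
positive valuation, is a uniformizer. -/
theorem uniformizer_of_subring {F : Type u} [Field F] (V : ValuationSubring F) [IsDiscreteValuationRing V]
    {S : Type u} [CommRing S] (j : S →+* V)
    (hgen : ∀ x : V, ∃ a b, j b ≠ 0 ∧ x * j b = j a) (t : S) (ht0 : j t ≠ 0) (ht : j t ∈ maximalIdeal V)
    (hdvd : ∀ s, j s ∈ maximalIdeal V → ∃ s', j s = j t * j s')
    (hinv : ∀ s, j s ∉ maximalIdeal V → ∃ s', residue V (j s) * residue V (j s') = 1) :
    maximalIdeal V = Ideal.span {j t} ∧ ∀ r : ResidueField V, ∃ s, residue V (j s) = r := by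
  classical
  obtain ⟨ϖV, hϖV⟩ := IsDiscreteValuationRing.exists_irreducible V
  have hτ : ¬ IsUnit (j t) := (mem_maximalIdeal _).1 ht
  have key : ∀ (i : ℕ) (s : S), j s ≠ 0 → ¬ ϖV ^ i ∣ j s →
      ∃ (k : ℕ) (s₁ : S), IsUnit (j s₁) ∧ j s = j t ^ k * j s₁ := by
    intro i
    induction i with
    | zero => intro s _ h; exact absurd (by simp) h
    | succ i ih =>
      intro s h0 hi
      by_cases hu : IsUnit (j s)
      · exact ⟨0, s, hu, by simp⟩
      obtain ⟨s', hs'⟩ := hdvd s ((mem_maximalIdeal _).2 hu)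
      obtain ⟨k, s₁, h1, h2⟩ := ih s' (fun h => h0 (by rw [hs', h, mul_zero])) fun ⟨d, hd⟩ => hi (by
        have : ϖV ∣ j t := by rw [← Ideal.mem_span_singleton, ← hϖV.maximalIdeal_eq]; exact ht
        obtain ⟨e, he⟩ := this
        exact ⟨e * d, by rw [hs', hd, he]; ring⟩)
      exact ⟨k + 1, s₁, h1, by rw [hs', h2]; ring⟩
  have key' : ∀ s, j s ≠ 0 → ∃ (k : ℕ) (s₁ : S), IsUnit (j s₁) ∧ j s = j t ^ k * j s₁ := by
    intro s hs
    obtain ⟨m, w, hw⟩ := IsDiscreteValuationRing.eq_unit_mul_pow_irreducible hs hϖV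
    refine key (m + 1) s hs fun h => ?_
    rw [hw, Units.dvd_mul_left, pow_dvd_pow_iff hϖV.ne_zero hϖV.not_isUnit] at h
    omega
  have hform : ∀ x : V, x ≠ 0 → ∃ (k : ℕ) (a b : S), IsUnit (j a) ∧ IsUnit (j b) ∧ x * j b = j t ^ k * j a := by
    intro x hx
    obtain ⟨a, b, hb, hab⟩ := hgen x
    obtain ⟨k₁, a₁, ha₁, ha⟩ := key' a (by rw [← hab]; exact mul_ne_zero hx hb)
    obtain ⟨k₂, b₁, hb₁, hb'⟩ := key' b hb
    rw [ha, hb'] at hab
    by_cases hle : k₂ ≤ k₁
    · obtain ⟨d, rfl⟩ := Nat.exists_eq_add_of_le hle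
      exact ⟨d, a₁, b₁, ha₁, hb₁, mul_left_cancel₀ (pow_ne_zero k₂ ht0) (by linear_combination hab)⟩
    push Not at hle
    obtain ⟨d, rfl⟩ := Nat.exists_eq_add_of_le (Nat.succ_le_of_lt hle)
    exfalso
    refine hτ (isUnit_of_dvd_unit ⟨x * j t ^ d * j b₁, ?_⟩ ha₁)
    rw [Nat.succ_eq_add_one] at hab
    exact mul_left_cancel₀ (pow_ne_zero k₁ ht0) (by linear_combination -hab)
  refine ⟨le_antisymm (fun x hx => ?_) ((Ideal.span_singleton_le_iff_mem _).2 ht), fun r => ?_⟩
  · rcases eq_or_ne x 0 with rfl | hx0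
    · exact zero_mem _
    obtain ⟨k, a, b, ha, hb, hab⟩ := hform x hx0
    rw [Ideal.mem_span_singleton, ← hb.dvd_mul_right, hab]
    refine (dvd_pow_self (j t) fun hk => ?_).mul_right _
    rw [hk, pow_zero, one_mul] at hab
    exact (mem_maximalIdeal _).1 (hab ▸ Ideal.mul_mem_right _ _ hx : j a ∈ maximalIdeal V) ha
  · obtain ⟨x, rfl⟩ := residue_surjective r
    by_cases hx : residue V x = 0
    · exact ⟨0, by rw [map_zero, map_zero, hx]⟩
    have hxm : x ∉ maximalIdeal V := fun h => hx ((residue_eq_zero_iff x).2 h)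
    obtain ⟨k, a, b, ha, hb, hab⟩ := hform x (fun h => hxm (h ▸ zero_mem _))
    obtain rfl : k = 0 := by
      by_contra hk
      refine hxm ((Ideal.IsPrime.mem_or_mem (Ideal.IsMaximal.isPrime inferInstance) ?_).resolve_right
        fun h => (mem_maximalIdeal _).1 h hb)
      rw [hab]
      exact Ideal.mul_mem_right _ _ (Ideal.pow_mem_of_mem _ ht k (Nat.pos_of_ne_zero hk))
    obtain ⟨b', hb'⟩ := hinv b fun h => (mem_maximalIdeal _).1 h hb
    refine ⟨a * b', ?_⟩
    rw [pow_zero, one_mul] at hab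
    rw [map_mul, map_mul, ← hab, map_mul, mul_assoc, hb', mul_one]

end Groth.Agent.PerturbH7
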