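import Groth.Agent.Lib.PerturbH7.Stable
import Mathlib.LinearAlgebra.BilinearForm.TensorProduct
import Mathlib.Algebra.Algebra.Bilinear

/-!
# Approximations from a multiplicativity defect
-/

universe u

open IsLocalRing
open scoped TensorProduct

namespace Groth.Agent.PerturbH7

theorem exists_bound {R T : Type u} [CommRing R] [CommRing T] [Algebra R T] (H : T →ₗ[R] T →ₗ[R] T)
    [Module.Finite R (integralClosure R T)] (ϖ : R)
    (hpow : ∀ x : T, ∃ m : ℕ, IsIntegral R (algebraMap R T ϖ ^ m * x)) :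
    ∃ m, ∀ u v, IsIntegral R u → IsIntegral R v → IsIntegral R (algebraMap R T ϖ ^ m * H u v) := by
  classical
  have hfg : (integralClosure R T).toSubmodule.FG := Module.Finite.iff_fg.1 ‹_›
  obtain ⟨G, hG⟩ := hfg
  choose f hf using hpow
  refine ⟨∑ g₁ ∈ G, ∑ g₂ ∈ G, f (H g₁ g₂), fun u v hu hv => ?_⟩
  set m := ∑ g₁ ∈ G, ∑ g₂ ∈ G, f (H g₁ g₂) with hm
  let N : Submodule R T := (integralClosure R T).toSubmodule.comap (LinearMap.mulLeft R (algebraMap R T ϖ ^ m))
  have hle : Submodule.map₂ H (integralClosure R T).toSubmodule (integralClosure R T).toSubmodule ≤ N := by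
    rw [← hG, Submodule.map₂_span_span, Submodule.span_le]
    rintro _ ⟨g₁, hg₁, g₂, hg₂, rfl⟩
    have h1 : f (H g₁ g₂) ≤ m := by
      refine le_trans ?_ (Finset.single_le_sum (f := fun g₁ => ∑ g₂ ∈ G, f (H g₁ g₂)) (fun _ _ => Nat.zero_le _) hg₁)
      exact Finset.single_le_sum (f := fun g₂ => f (H g₁ g₂)) (fun _ _ => Nat.zero_le _) hg₂
    show IsIntegral R (algebraMap R T ϖ ^ m * H g₁ g₂)
    obtain ⟨d, hd⟩ := Nat.exists_eq_add_of_le h1
    rw [hd, add_comm, pow_add, mul_assoc]
    exact (isIntegral_algebraMap.pow d).mul (hf _)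
  exact hle (Submodule.apply_mem_map₂ H hu hv)

theorem approx_of_defect {R T T' : Type u} [CommRing R] [CommRing T] [CommRing T'] [Algebra R T] [Algebra R T']
    (φ : T ≃ₗ[R] T') (hφ : φ 1 = 1) [hfin : Module.Finite R (integralClosure R T)] (ϖ : R) (m N : ℕ)
    (H : T → T → T) (hH : ∀ u v, IsIntegral R u → IsIntegral R v → IsIntegral R (algebraMap R T ϖ ^ m * H u v))
    (hN : m + 2 ≤ N) (hdef : ∀ u v, φ (u * v) = φ u * φ v + algebraMap R T' ϖ ^ N * φ (H u v)) :
    Approx ϖ φ := by
  refine ⟨hφ, fun u v hu hv => ⟨algebraMap R T ϖ ^ (N - 2) * H u v, ?_, ?_⟩, hfin⟩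
  · obtain ⟨d, hd⟩ := Nat.exists_eq_add_of_le (show m ≤ N - 2 by omega)
    rw [hd, add_comm, pow_add, mul_assoc]
    exact (isIntegral_algebraMap.pow d).mul (hH u v hu hv)
  · rw [hdef u v]
    congr 1
    have h1 : φ (algebraMap R T ϖ ^ (N - 2) * H u v) = algebraMap R T' ϖ ^ (N - 2) * φ (H u v) := by
      rw [← map_pow, ← map_pow, ← Algebra.smul_def, map_smul, Algebra.smul_def]
    rw [h1, map_pow, ← mul_assoc, ← pow_add, show 2 + (N - 2) = N by omega]

variable {A B K L : Type u} [CommRing A] [IsDomain A] [IsDiscreteValuationRing A]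
    [CommRing B] [IsDomain B] [IsDiscreteValuationRing B] [Algebra A B] [IsLocalHom (algebraMap A B)]
    [Field K] [Field L] [Algebra A K] [IsFractionRing A K] [Algebra B L] [IsFractionRing B L]
    [Algebra K L] [Algebra A L] [IsScalarTower A K L] [IsScalarTower A B L]
    {E : Type u} [Field E] [Algebra K E] [FiniteDimensional K E] [Algebra A E] [IsScalarTower A K E]

/-- A solution `E` remains one under a perturbation of its multiplication by a high power of `π`. -/
theorem isSolution_stable [Module.Finite A (integralClosure A E)] [Module.Finite B (integralClosure B (L ⊗[K] E))]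
    [IsReduced (L ⊗[K] E)] (π : A) (hπ : Irreducible π) (hπB : algebraMap A B π ≠ 0)
    (H : E →ₗ[K] E →ₗ[K] E) (hsol : EtRam.IsSolution B K L E) :
    ∃ N₀ : ℕ, ∀ N, N₀ ≤ N → ∀ (E' : Type u) [Field E'] [Algebra K E'] [FiniteDimensional K E'] [Algebra A E']
      [IsScalarTower A K E'] (ψ : E ≃ₗ[K] E'), ψ 1 = 1 →
      (∀ u v, ψ (u * v) = ψ u * ψ v + algebraMap A E' π ^ N * ψ (H u v)) → EtRam.IsSolution B K L E' := by
  have hπm : π ∈ maximalIdeal A := (mem_maximalIdeal π).2 hπ.not_isUnit
  have hπBm : algebraMap A B π ∈ maximalIdeal B :=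
    (mem_maximalIdeal _).2 fun hu => hπ.not_isUnit (isUnit_of_map_unit (algebraMap A B) π hu)
  let HA : E →ₗ[A] E →ₗ[A] E := LinearMap.mk₂ A (fun u v => H u v)
    (fun u u' v => by simp) (fun r u v => by
      rw [← IsScalarTower.algebraMap_smul K r u, map_smul, LinearMap.smul_apply, IsScalarTower.algebraMap_smul])
    (fun u v v' => by simp) (fun r u v => by
      rw [← IsScalarTower.algebraMap_smul K r v, map_smul, IsScalarTower.algebraMap_smul])
  obtain ⟨mA, hmA⟩ := exists_bound HA π fun x => exists_pow_isIntegral A K E hπm hπ.ne_zero x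
  let HL := LinearMap.BilinMap.baseChange L H
  let HB : (L ⊗[K] E) →ₗ[B] (L ⊗[K] E) →ₗ[B] (L ⊗[K] E) := LinearMap.mk₂ B (fun u v => HL u v)
    (fun u u' v => by simp) (fun r u v => by
      rw [← IsScalarTower.algebraMap_smul L r u, map_smul, LinearMap.smul_apply, IsScalarTower.algebraMap_smul])
    (fun u v v' => by simp) (fun r u v => by
      rw [← IsScalarTower.algebraMap_smul L r v, map_smul, IsScalarTower.algebraMap_smul])
  obtain ⟨mB, hmB⟩ := exists_bound HB (algebraMap A B π) fun x => exists_pow_isIntegral B L _ hπBm hπB x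
  refine ⟨max mA mB + 2, fun N hN E' _ _ _ _ _ ψ hψ1 hdef => ?_⟩
  refine isSolution_of_approx ψ π hπ hπB ?_ ?_ hsol
  · exact approx_of_defect (ψ.restrictScalars A) hψ1 π mA N (fun u v => HA u v) hmA (by omega) hdef
  · refine approx_of_defect (extend (B := B) (L := L) ψ) ?_ _ mB N (fun u v => HB u v) hmB (by omega) ?_
    · show extend (B := B) (L := L) ψ ((1 : L) ⊗ₜ[K] (1 : E)) = _
      rw [extend_tmul, hψ1]
      rfl
    have hpi : algebraMap B (L ⊗[K] E') (algebraMap A B π) ^ N = (1 : L) ⊗ₜ[K] (algebraMap A E' π ^ N) := by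
      rw [← one_tmul_algebraMap A B K L E' π, Algebra.TensorProduct.tmul_pow, one_pow]
    intro u v
    show extend (B := B) (L := L) ψ (u * v) = _ + _ * extend (B := B) (L := L) ψ (HL u v)
    induction u using TensorProduct.induction_on with
    | zero => simp
    | add a b ha hb => simp only [add_mul, map_add, LinearMap.add_apply, mul_add, ha, hb]; abel
    | tmul l e =>
      induction v using TensorProduct.induction_on with
      | zero => simp
      | add a b ha hb => simp only [mul_add, map_add, ha, hb]; abel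
      | tmul l' e' =>
        rw [Algebra.TensorProduct.tmul_mul_tmul, extend_tmul, extend_tmul, extend_tmul,
          show HL (l ⊗ₜ[K] e) (l' ⊗ₜ[K] e') = (l * l') ⊗ₜ[K] H e e' from LinearMap.BilinMap.baseChange_tmul H l e l' e',
          extend_tmul, hpi, Algebra.TensorProduct.tmul_mul_tmul, Algebra.TensorProduct.tmul_mul_tmul, one_mul,
          hdef, TensorProduct.tmul_add]

end Groth.Agent.PerturbH7
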