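import Groth.Agent.Lib.PerturbH7.Approx
import Groth.Agent.Lib.EtRamH7.Basic
import Groth.Agent.Lib.EtRamH7.FibreCrit
import Groth.Agent.Lib.GeomRed21.Algebra
import Mathlib.RingTheory.DedekindDomain.PID
import Mathlib.RingTheory.DedekindDomain.Ideal.Lemmas
import Mathlib.RingTheory.TensorProduct.Maps

/-!
# Solutions are stable under small perturbations
-/

universe u

open IsLocalRing
open scoped TensorProduct

namespace Groth.Agent.PerturbH7

theorem geomRed_iff_of_surjective (k k' A : Type u) [Field k] [Field k'] [CommRing A] [Algebra k k'] [Algebra k A]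
    [Algebra k' A] [IsScalarTower k k' A] (hs : Function.Surjective (algebraMap k k')) :
    Algebra.IsGeometricallyReduced k' A ↔ Algebra.IsGeometricallyReduced k A := by
  constructor
  · intro h
    rw [Algebra.isGeometricallyReduced_field_iff]
    let e : k ≃+* k' := RingEquiv.ofBijective (algebraMap k k') ⟨RingHom.injective _, hs⟩
    letI : Algebra k' (AlgebraicClosure k) := ((algebraMap k (AlgebraicClosure k)).comp e.symm.toRingHom).toAlgebra
    haveI : IsScalarTower k k' (AlgebraicClosure k) := IsScalarTower.of_algebraMap_eq fun x => by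
      show algebraMap k _ x = algebraMap k _ (e.symm (e x))
      rw [e.symm_apply_apply]
    haveI := GeomRed21.isReduced_tensor_field (k := k') A (AlgebraicClosure k)
    haveI : TensorProduct.CompatibleSMul k k' (AlgebraicClosure k) A :=
      TensorProduct.CompatibleSMul.of_algebraMap_surjective _ _ hs
    let f := Algebra.TensorProduct.equivOfCompatibleSMul k k' k (AlgebraicClosure k) A
    exact isReduced_of_injective f.symm f.symm.injective
  · intro h
    rw [Algebra.isGeometricallyReduced_field_iff]
    haveI := GeomRed21.isReduced_tensor_field (k := k) A (AlgebraicClosure k')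
    haveI : TensorProduct.CompatibleSMul k k' (AlgebraicClosure k') A :=
      TensorProduct.CompatibleSMul.of_algebraMap_surjective _ _ hs
    let f := Algebra.TensorProduct.equivOfCompatibleSMul k k' k (AlgebraicClosure k') A
    exact isReduced_of_injective f f.injective

section
variable (A B K L : Type u) [CommRing A] [IsDomain A] [IsDiscreteValuationRing A]
    [CommRing B] [IsDomain B] [IsDiscreteValuationRing B] [Algebra A B] [IsLocalHom (algebraMap A B)]
    [Field K] [Field L] [Algebra A K] [IsFractionRing A K] [Algebra B L] [IsFractionRing B L]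
    [Algebra K L] [Algebra A L] [IsScalarTower A K L] [IsScalarTower A B L]
    (E : Type u) [Field E] [Algebra K E] [FiniteDimensional K E] [Algebra A E] [IsScalarTower A K E]

omit [IsLocalHom (algebraMap A B)] [Field K] [Algebra A K] [IsFractionRing A K] [Algebra K L] [IsScalarTower A K L]
  [Algebra A L] [IsScalarTower A B L] [Field E] in
/-- Powers of a uniformizer clear denominators of integrality. -/
theorem exists_pow_isIntegral (R F T : Type u) [CommRing R] [IsDomain R] [IsDiscreteValuationRing R] [Field F]
    [Algebra R F] [IsFractionRing R F] [CommRing T] [Algebra F T] [Algebra R T] [IsScalarTower R F T]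
    [Module.Finite F T] {ϖ : R} (hϖ : ϖ ∈ maximalIdeal R) (hϖ0 : ϖ ≠ 0) (x : T) :
    ∃ m : ℕ, IsIntegral R (algebraMap R T ϖ ^ m * x) := by
  obtain ⟨⟨b, hb⟩, hbx⟩ := IsIntegral.exists_multiple_integral_of_isLocalization (nonZeroDivisors R) x
    (IsIntegral.of_finite F x)
  obtain ⟨β, hβ⟩ := IsDiscreteValuationRing.exists_irreducible R
  obtain ⟨k, v, rfl⟩ := IsDiscreteValuationRing.eq_unit_mul_pow_irreducible (nonZeroDivisors.ne_zero hb) hβ
  obtain ⟨j, w, rfl⟩ := IsDiscreteValuationRing.eq_unit_mul_pow_irreducible hϖ0 hβ
  have hj : 1 ≤ j := Nat.one_le_iff_ne_zero.2 fun h => by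
    rw [h, pow_zero, mul_one] at hϖ
    exact (mem_maximalIdeal _).1 hϖ w.isUnit
  refine ⟨k, ?_⟩
  have h1 : algebraMap R T (↑w * β ^ j) ^ k * x =
      algebraMap R T (↑w ^ k * ↑v⁻¹ * β ^ (k * (j - 1))) * ((↑v * β ^ k : R) • x) := by
    rw [Algebra.smul_def, ← mul_assoc, ← map_mul, ← map_pow]
    congr 2
    have : j * k = k * (j - 1) + k := by
      rw [← Nat.mul_succ, Nat.succ_eq_add_one, Nat.sub_add_cancel hj, mul_comm]
    rw [mul_pow, ← pow_mul, this, pow_add]
    linear_combination (-(↑w ^ k * β ^ (k * (j - 1)) * β ^ k)) * v.inv_mul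
  rw [h1]
  exact isIntegral_algebraMap.mul hbx

variable [Module.Finite A (integralClosure A E)]

include K in
/-- The integral closure of a DVR in a finite extension, when finite, is a principal ideal domain. -/
theorem isPID_integralClosure : IsPrincipalIdealRing (integralClosure A E) := by
  haveI : IsIntegrallyClosed (integralClosure A E) := integralClosure.isIntegrallyClosedOfFiniteExtension K
  haveI : IsNoetherianRing (integralClosure A E) :=
    IsNoetherianRing.of_finite A (integralClosure A E)
  haveI : IsDedekindDomain (integralClosure A E) := { }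
  haveI : Algebra.IsIntegral A (integralClosure A E) := ⟨fun y => IsIntegral.of_finite A y⟩
  refine IsPrincipalIdealRing.of_finite_maximals ?_
  have hinj : Function.Injective (algebraMap A (integralClosure A E)) := fun a b h => by
    have h1 := congrArg Subtype.val h
    exact IsFractionRing.injective A K ((algebraMap K E).injective (by
      rw [← IsScalarTower.algebraMap_apply, ← IsScalarTower.algebraMap_apply]; exact h1))
  haveI : Module.IsTorsionFree A (integralClosure A E) :=
    Module.isTorsionFree_iff_algebraMap_injective.2 hinj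
  refine (IsDedekindDomain.primesOver_finite (maximalIdeal A) (integralClosure A E)).subset fun I hI => ?_
  haveI := (show I.IsMaximal from hI)
  exact ⟨inferInstance, ⟨(IsLocalRing.eq_maximalIdeal (Ideal.isMaximal_comap_of_isIntegral_of_isMaximal (R := A) I)).symm⟩⟩

end

end Groth.Agent.PerturbH7
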