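import Groth.Agent.Lib.PerturbH7.Fibre
import Mathlib.RingTheory.Valuation.LocalSubring

/-!
# Valuations on a finite algebra over the fraction field
-/

universe u

open IsLocalRing
open scoped TensorProduct

namespace Groth.Agent.PerturbH7

/-- An element of a field which lies in every valuation ring dominating `B` is integral over `B`. -/
theorem isIntegral_of_forall_valuationSubring (B L M : Type u) [CommRing B] [IsDomain B] [IsDiscreteValuationRing B]
    [Field L] [Algebra B L] [IsFractionRing B L] [Field M] [Algebra L M] [FiniteDimensional L M] [Algebra B M]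
    [IsScalarTower B L M] (x : M)
    (h : ∀ W : ValuationSubring M, EtRam.Dominates B ((algebraMap L M).comp (algebraMap B L)) W → x ∈ W) :
    IsIntegral B x := by
  classical
  by_contra hx
  haveI : IsIntegrallyClosedIn (integralClosure B M).toSubring M := by
    rw [Subring.isIntegrallyClosedIn_iff]
    intro y hy
    haveI : Algebra.IsIntegral B (integralClosure B M) := inferInstance
    exact isIntegral_trans (A := integralClosure B M) y hy
  obtain ⟨W, hW, hxW⟩ := Subring.exists_le_valuationSubring_of_isIntegrallyClosedIn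
    (R := (integralClosure B M).toSubring) (x := x) hx
  have hBW : ∀ b, algebraMap L M (algebraMap B L b) ∈ W := fun b =>
    hW (by rw [← IsScalarTower.algebraMap_apply]; exact (integralClosure B M).algebraMap_mem b)
  let f : B →+* W := RingHom.codRestrict ((algebraMap L M).comp (algebraMap B L)) W hBW
  haveI hP : ((maximalIdeal W).comap f).IsPrime := Ideal.comap_isPrime f _
  rcases eq_or_ne ((maximalIdeal W).comap f) ⊥ with hbot | hne
  · -- then `W` contains `L`, hence everything
    have hL : ∀ l, algebraMap L M l ∈ W := by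
      intro l
      obtain ⟨a, b, hb, rfl⟩ := IsFractionRing.div_surjective B l
      have hu : IsUnit (f b) := IsLocalRing.notMem_maximalIdeal.1 fun hm =>
        nonZeroDivisors.ne_zero hb ((Ideal.mem_bot).1 (hbot ▸ Ideal.mem_comap.2 hm : b ∈ (⊥ : Ideal B)))
      obtain ⟨v, hv⟩ := hu.exists_right_inv
      have hb0 : algebraMap L M (algebraMap B L b) ≠ 0 :=
        (map_ne_zero _).2 (IsFractionRing.to_map_ne_zero_of_mem_nonZeroDivisors hb)
      have hbv : algebraMap L M (algebraMap B L b) * v.1 = 1 := congrArg Subtype.val hv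
      have hbv' := eq_inv_of_mul_eq_one_right hbv
      rw [map_div₀, div_eq_mul_inv, ← hbv']
      exact W.mul_mem _ _ (hBW a) v.2
    letI : Algebra L W := (RingHom.codRestrict (algebraMap L M) W hL).toAlgebra
    haveI : IsScalarTower L W M := IsScalarTower.of_algebraMap_eq fun _ => rfl
    obtain ⟨y, hy⟩ := IsIntegrallyClosed.isIntegral_iff.1 ((IsIntegral.of_finite L x).tower_top (A := W))
    exact hxW (hy ▸ y.2)
  · have hmax : (maximalIdeal W).comap f = maximalIdeal B :=
      IsLocalRing.eq_maximalIdeal (Ideal.IsPrime.isMaximal hP hne)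
    refine hxW (h W ⟨hBW, fun b hb => ?_⟩)
    have : f b ∈ maximalIdeal W := Ideal.mem_comap.1 (hmax ▸ hb)
    exact (W.valuation_lt_one_iff _).1 this

/-- An element of a finite reduced algebra which is integral in every residue field is integral. -/
theorem isIntegral_of_forall_maximal (B L T : Type u) [CommRing B] [Field L] [Algebra B L] [CommRing T] [IsReduced T]
    [Algebra L T] [Module.Finite L T] [Algebra B T] (x : T)
    (h : ∀ (m : Ideal T) [m.IsMaximal], IsIntegral B (Ideal.Quotient.mk m x)) : IsIntegral B x := by
  classical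
  haveI : IsArtinianRing T := IsArtinianRing.of_finite L T
  haveI : Fintype (MaximalSpectrum T) := Fintype.ofFinite _
  choose P hP hP0 using fun m : MaximalSpectrum T => h m.asIdeal
  refine ⟨∏ m, P m, Polynomial.monic_prod_of_monic _ _ fun m _ => hP m, ?_⟩
  show Polynomial.eval₂ (algebraMap B T) x (∏ m, P m) = 0
  refine IsReduced.eq_zero _ ?_
  have hmem : Polynomial.eval₂ (algebraMap B T) x (∏ m, P m) ∈ Ideal.jacobson (⊥ : Ideal T) := by
    refine Ideal.mem_sInf.2 fun m hm => ?_
    haveI := hm.2
    rw [← Ideal.Quotient.eq_zero_iff_mem, Polynomial.eval₂_finsetProd, map_prod]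
    refine Finset.prod_eq_zero (Finset.mem_univ (⟨m, hm.2⟩ : MaximalSpectrum T)) ?_
    rw [Polynomial.hom_eval₂]
    exact hP0 ⟨m, hm.2⟩
  rw [IsArtinianRing.jacobson_eq_radical] at hmem
  obtain ⟨n, hn⟩ := hmem
  exact ⟨n, by simpa using hn⟩

end Groth.Agent.PerturbH7
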