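import Groth.Agent.Lib.PerturbH7.InsepStep
import Mathlib.FieldTheory.PurelyInseparable.Tower

/-!
# Separable solutions from solutions
-/

universe u

namespace Groth.Agent.PerturbH7

theorem exists_separable_solution (A B K L : Type u) [CommRing A] [IsDomain A] [IsDiscreteValuationRing A]
    [CommRing B] [IsDomain B] [IsDiscreteValuationRing B] [Algebra A B] [IsLocalHom (algebraMap A B)]
    (hinj : Function.Injective (algebraMap A B))
    [Field K] [Field L] [Algebra A K] [IsFractionRing A K] [Algebra B L] [IsFractionRing B L]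
    [Algebra K L] [Algebra A L] [IsScalarTower A K L] [IsScalarTower A B L] [Algebra.IsGeometricallyReduced K L]
    (hB : CAlg.IsNagata B) (K₂ : Type u) [Field K₂] [Algebra K K₂] [FiniteDimensional K K₂]
    (h₂ : EtRam.IsSolution B K L K₂) :
    ∃ (K₃ : Type u) (_ : Field K₃) (_ : Algebra K K₃) (_ : FiniteDimensional K K₃) (_ : Algebra.IsSeparable K K₃),
      EtRam.IsSolution B K L K₃ := by
  obtain ⟨q, hq⟩ := CharP.exists K
  rcases CharP.char_is_prime_or_zero K q with hp | rfl
  swap
  · haveI : CharZero K := CharP.charP_to_charZero K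
    exact ⟨K₂, _, _, inferInstance, inferInstance, h₂⟩
  haveI : Fact q.Prime := ⟨hp⟩
  haveI : ExpChar K q := ExpChar.prime hp
  suffices h : ∀ (n : ℕ) (E : Type u) [Field E] [Algebra K E] [FiniteDimensional K E],
      Field.finInsepDegree K E = n → EtRam.IsSolution B K L E →
      ∃ (K₃ : Type u) (_ : Field K₃) (_ : Algebra K K₃) (_ : FiniteDimensional K K₃) (_ : Algebra.IsSeparable K K₃),
        EtRam.IsSolution B K L K₃ from h _ K₂ rfl h₂
  intro n
  induction n using Nat.strong_induction_on with
  | _ n ih =>
  intro E _ _ _ hn hE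
  by_cases hsep : Algebra.IsSeparable K E
  · exact ⟨E, _, _, inferInstance, hsep, hE⟩
  -- a maximal proper intermediate field over the separable closure
  set S := separableClosure K E with hS
  have hStop : S ≠ ⊤ := fun h => hsep ((separableClosure.eq_top_iff K E).1 h)
  obtain ⟨F, ⟨hF, hFtop⟩, hmax⟩ : ∃ F : IntermediateField K E, (S ≤ F ∧ F ≠ ⊤) ∧
      ∀ F' : IntermediateField K E, (S ≤ F' ∧ F' ≠ ⊤) → Module.finrank K F' ≤ Module.finrank K F := by
    have hfin : (Set.range fun F' : {F' : IntermediateField K E // S ≤ F' ∧ F' ≠ ⊤} => Module.finrank K F'.1).Finite := by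
      refine (Set.finite_le_nat (Module.finrank K E)).subset ?_
      rintro _ ⟨F', rfl⟩
      exact Submodule.finrank_le F'.1.toSubalgebra.toSubmodule
    obtain ⟨_, ⟨⟨F, hF⟩, rfl⟩, hF'⟩ := hfin.exists_maximal ⟨_, ⟨⟨S, le_rfl, hStop⟩, rfl⟩⟩
    refine ⟨F, hF, fun F' h' => ?_⟩
    rcases le_total (Module.finrank K F') (Module.finrank K F) with h | h
    · exact h
    · exact hF' ⟨⟨F', h'⟩, rfl⟩ h
  haveI : IsPurelyInseparable S E := separableClosure.isPurelyInseparable K E
  haveI : IsPurelyInseparable F E := by
    letI : Algebra S F := (IntermediateField.inclusion hF).toRingHom.toAlgebra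
    haveI : IsScalarTower S F E := IsScalarTower.of_algebraMap_eq fun _ => rfl
    exact IsPurelyInseparable.tower_top S F E
  have hmax' : ∀ z : E, z ∉ F → IntermediateField.adjoin F {z} = ⊤ := by
    intro z hz
    by_contra hne
    have hle : F ≤ (IntermediateField.adjoin F {z}).restrictScalars K := fun w hw =>
      (IntermediateField.adjoin F {z}).algebraMap_mem ⟨w, hw⟩
    have h1 := hmax ((IntermediateField.adjoin F {z}).restrictScalars K) ⟨hF.trans hle, by simpa using hne⟩
    have h2 : F = (IntermediateField.adjoin F {z}).restrictScalars K := IntermediateField.eq_of_le_of_finrank_le hle h1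
    exact hz (h2 ▸ IntermediateField.mem_adjoin_simple_self F z)
  haveI : CharP F q := charP_of_injective_algebraMap (algebraMap K F).injective q
  haveI : ExpChar F q := ExpChar.prime hp
  obtain ⟨x, hx⟩ : ∃ x : E, x ∉ F := by
    by_contra h
    push Not at h
    exact hFtop (eq_top_iff.2 fun z _ => h z)
  have hdeg : Module.finrank F E = q := by
    obtain ⟨k, y, hy⟩ := IsPurelyInseparable.minpoly_eq_X_pow_sub_C F q x
    have hEx : Module.finrank F E = q ^ k := by
      have := IntermediateField.adjoin.finrank (IsIntegral.of_finite F x)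
      rwa [hmax' x hx, IntermediateField.finrank_top', hy, Polynomial.natDegree_X_pow_sub_C] at this
    have hk0 : k ≠ 0 := fun h => by
      rw [h, pow_zero] at hy
      refine hx ?_
      have := minpoly.aeval F x
      rw [hy] at this
      simp [sub_eq_zero] at this
      exact this ▸ y.2
    by_contra hne
    obtain ⟨j, rfl⟩ : ∃ j, k = j + 2 := ⟨k - 2, by
      have : k ≠ 1 := fun h => hne (by rw [hEx, h, pow_one])
      omega⟩
    by_cases hxq : x ^ q ∈ F
    · have h1 : Polynomial.aeval x (Polynomial.X ^ q - Polynomial.C (⟨x ^ q, hxq⟩ : F)) = 0 := by simp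
      have h2 := Polynomial.natDegree_le_natDegree (minpoly.min F x (Polynomial.monic_X_pow_sub_C _ hp.ne_zero) h1)
      rw [hy, Polynomial.natDegree_X_pow_sub_C, Polynomial.natDegree_X_pow_sub_C] at h2
      have : q ^ 1 < q ^ (j + 2) := Nat.pow_lt_pow_right hp.one_lt (by omega)
      rw [pow_one] at this
      omega
    · have h1 : Polynomial.aeval (x ^ q) (Polynomial.X ^ (q ^ (j + 1)) - Polynomial.C y) = 0 := by
        have := minpoly.aeval F x
        rw [hy] at this
        simp only [map_sub, map_pow, Polynomial.aeval_X, Polynomial.aeval_C] at this ⊢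
        rw [← pow_mul, ← pow_succ']
        exact this
      have h2 := Polynomial.natDegree_le_natDegree (minpoly.min F (x ^ q) (Polynomial.monic_X_pow_sub_C _ (pow_ne_zero _ hp.ne_zero)) h1)
      rw [Polynomial.natDegree_X_pow_sub_C] at h2
      have h3 := IntermediateField.adjoin.finrank (IsIntegral.of_finite F (x ^ q))
      rw [hmax' _ hxq, IntermediateField.finrank_top', hEx] at h3
      have : q ^ (j + 1) < q ^ (j + 2) := Nat.pow_lt_pow_right hp.one_lt (by omega)
      omega
  obtain ⟨K₃, _, _, _, _, hfd, hs3, hsol3⟩ := exists_separable_step A B K L hp hinj hB F E hE hdeg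
  haveI := hfd
  haveI : FiniteDimensional K K₃ := FiniteDimensional.trans K F K₃
  refine ih _ ?_ K₃ rfl hsol3
  rw [← hn, ← Field.finInsepDegree_mul_finInsepDegree_of_isAlgebraic K F K₃,
    ← Field.finInsepDegree_mul_finInsepDegree_of_isAlgebraic K F E, Algebra.IsSeparable.finInsepDegree_eq F K₃,
    IsPurelyInseparable.finInsepDegree_eq F E, hdeg, mul_one]
  exact lt_mul_of_one_lt_right (Nat.pos_of_ne_zero (NeZero.ne _)) hp.one_lt

end Groth.Agent.PerturbH7
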