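import Groth.Agent.Lib.PerturbH7.Lift

/-!
# The fibre of a solution
-/

universe u

open IsLocalRing
open scoped TensorProduct

namespace Groth.Agent.PerturbH7

variable (A B K L : Type u) [CommRing A] [IsDomain A] [IsDiscreteValuationRing A]
    [CommRing B] [IsDomain B] [IsDiscreteValuationRing B] [Algebra A B] [IsLocalHom (algebraMap A B)]
    [Field K] [Field L] [Algebra A K] [IsFractionRing A K] [Algebra B L] [IsFractionRing B L]
    [Algebra K L] [Algebra A L] [IsScalarTower A K L] [IsScalarTower A B L]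
    (E : Type u) [Field E] [Algebra K E] [FiniteDimensional K E] [Algebra A E] [IsScalarTower A K E]

omit [IsLocalHom (algebraMap A B)] [IsDiscreteValuationRing A] [IsDomain A] [IsDiscreteValuationRing B] [IsDomain B]
  [IsFractionRing A K] [IsFractionRing B L] [FiniteDimensional K E] in
theorem one_tmul_algebraMap (a : A) :
    (1 : L) ⊗ₜ[K] algebraMap A E a = algebraMap B (L ⊗[K] E) (algebraMap A B a) := by
  rw [IsScalarTower.algebraMap_apply B L (L ⊗[K] E), ← IsScalarTower.algebraMap_apply A B L,
    IsScalarTower.algebraMap_apply A K L, IsScalarTower.algebraMap_apply A K E,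
    Algebra.TensorProduct.algebraMap_apply, Algebra.algebraMap_eq_smul_one (R := K) (A := E),
    TensorProduct.tmul_smul, TensorProduct.smul_tmul', Algebra.smul_def, mul_one]
  rfl

omit [IsLocalHom (algebraMap A B)] [IsDiscreteValuationRing A] [IsDomain A] [IsDiscreteValuationRing B] [IsDomain B]
  [IsFractionRing A K] [IsFractionRing B L] [FiniteDimensional K E] in
include A in
theorem isIntegral_one_tmul {x : E} (hx : IsIntegral A x) : IsIntegral B ((1 : L) ⊗ₜ[K] x : L ⊗[K] E) := by
  obtain ⟨P, hP, hP0⟩ := hx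
  refine ⟨P.map (algebraMap A B), hP.map _, ?_⟩
  have hcomp : (algebraMap B (L ⊗[K] E)).comp (algebraMap A B) =
      (Algebra.TensorProduct.includeRight : E →ₐ[K] L ⊗[K] E).toRingHom.comp (algebraMap A E) :=
    RingHom.ext fun a => (one_tmul_algebraMap A B K L E a).symm
  rw [Polynomial.eval₂_map, hcomp]
  show Polynomial.eval₂ _ ((Algebra.TensorProduct.includeRight : E →ₐ[K] L ⊗[K] E).toRingHom x) P = 0
  rw [← Polynomial.hom_eval₂, hP0, map_zero]

/-- The map of integral closures. -/
noncomputable def closureMap : integralClosure A E →+* integralClosure B (L ⊗[K] E) where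
  toFun x := ⟨(1 : L) ⊗ₜ[K] x.1, isIntegral_one_tmul A B K L E x.2⟩
  map_one' := Subtype.ext rfl
  map_mul' x y := Subtype.ext (by
    show (1 : L) ⊗ₜ[K] (x.1 * y.1) = ((1 : L) ⊗ₜ[K] x.1) * ((1 : L) ⊗ₜ[K] y.1)
    rw [Algebra.TensorProduct.tmul_mul_tmul, one_mul])
  map_zero' := Subtype.ext (TensorProduct.tmul_zero _ _)
  map_add' x y := Subtype.ext (TensorProduct.tmul_add _ _ _)

theorem coe_closureMap (x : integralClosure A E) :
    (closureMap A B K L E x : L ⊗[K] E) = (1 : L) ⊗ₜ[K] x.1 := rfl

/-- The prime `(t)` of the integral closure, extended. -/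
noncomputable abbrev fibreIdeal (t : integralClosure A E) : Ideal (integralClosure B (L ⊗[K] E)) :=
  Ideal.span {closureMap A B K L E t}

theorem span_le_comap_fibreIdeal (t : integralClosure A E) :
    Ideal.span {t} ≤ (fibreIdeal A B K L E t).comap (closureMap A B K L E) := by
  rw [Ideal.span_singleton_le_iff_mem, Ideal.mem_comap]
  exact Ideal.subset_span rfl

/-- The algebra structure of the fibre over the residue field. -/
noncomputable abbrev fibreAlgebra (t : integralClosure A E) :
    Algebra (integralClosure A E ⧸ Ideal.span {t}) (integralClosure B (L ⊗[K] E) ⧸ fibreIdeal A B K L E t) :=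
  RingHom.toAlgebra (R := integralClosure A E ⧸ Ideal.span {t})
    (S := integralClosure B (L ⊗[K] E) ⧸ fibreIdeal A B K L E t)
    (Ideal.quotientMap _ (closureMap A B K L E) (span_le_comap_fibreIdeal A B K L E t))

omit [IsLocalHom (algebraMap A B)] [IsDiscreteValuationRing B] [IsDomain B] [IsFractionRing B L] [Field L]
  [Algebra B L] [Algebra K L] [Algebra A L] [IsScalarTower A K L] [IsScalarTower A B L] [Algebra A B] in
include K in
/-- A valuation ring of `E` above the maximal ideal `(t)` of the integral closure. -/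
theorem centre_facts (π : A) (hπ : Irreducible π) (V : ValuationSubring E)
    (hAV : EtRam.Dominates A (algebraMap A E) V) (j : integralClosure A E →+* V)
    (hj : ∀ x, (j x).1 = x.1) (t : integralClosure A E) (hP : (Ideal.span {t}).IsMaximal) (ht0 : t ≠ 0)
    (htV : j t ∈ maximalIdeal V) :
    (maximalIdeal V).comap j = Ideal.span {t} ∧ maximalIdeal V = Ideal.span {j t} ∧
      ∀ r : ResidueField V, ∃ s, residue V (j s) = r := by
  haveI := EtRamH7.dvr_of_dominates A K E (algebraMap A E) (IsScalarTower.algebraMap_eq A K E) V hAV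
  have hcentre : (maximalIdeal V).comap j = Ideal.span {t} :=
    (hP.eq_of_le (Ideal.comap_isPrime j (maximalIdeal V)).ne_top
      ((Ideal.span_singleton_le_iff_mem _).2 (Ideal.mem_comap.2 htV))).symm
  refine ⟨hcentre, uniformizer_of_subring V j (fun x => ?_) t
    (fun h => ht0 (Subtype.ext (by rw [← hj, h]; rfl))) htV (fun s hs => ?_) (fun s hs => ?_)⟩
  · obtain ⟨k, hk⟩ := exists_pow_isIntegral A K E ((mem_maximalIdeal π).2 hπ.not_isUnit) hπ.ne_zero x.1
    have h0 : algebraMap A E π ≠ 0 := by
      rw [IsScalarTower.algebraMap_apply A K E, Ne, map_eq_zero]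
      exact fun h => hπ.ne_zero ((map_eq_zero_iff _ (IsFractionRing.injective A K)).1 h)
    refine ⟨⟨_, hk⟩, algebraMap A _ π ^ k, fun h => pow_ne_zero k h0 ?_, Subtype.ext ?_⟩
    · have h1 : (j (algebraMap A (integralClosure A E) π ^ k)).1 = 0 := by rw [h]; rfl
      rwa [hj] at h1
    · show x.1 * (j _).1 = (j _).1
      rw [hj, hj]; exact mul_comm _ _
  · obtain ⟨c, hc⟩ := Ideal.mem_span_singleton'.1 (hcentre ▸ Ideal.mem_comap.2 hs : s ∈ Ideal.span {t})
    exact ⟨c, by rw [← map_mul, mul_comm, hc]⟩
  · have hs' : s ∉ Ideal.span {t} := fun h => hs (Ideal.mem_comap.1 (hcentre.symm ▸ h))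
    obtain ⟨c, i, hi, hci⟩ := hP.exists_inv hs'
    refine ⟨c, ?_⟩
    rw [← map_mul, ← map_mul, mul_comm, ← map_one (residue V), ← map_one j, ← hci, map_add, map_add,
      (residue_eq_zero_iff (j i)).2 (Ideal.mem_comap.1 (hcentre.symm ▸ hi)), add_zero]

/-- In a valuation ring of a compositum above the maximal ideal `(t)`: the maximal ideal is generated by `t` and
the residue field is geometrically reduced over that of `(t)`. -/
theorem above_facts (hsol : EtRam.IsSolution B K L E) (π : A) (hπ : Irreducible π)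
    (t : integralClosure A E) (hP : (Ideal.span {t}).IsMaximal) (ht0 : t ≠ 0)
    (M : Type u) [Field M] [Algebra K M] [Algebra L M] [Algebra E M] [IsScalarTower K L M] [IsScalarTower K E M]
    (hgen : Algebra.adjoin L (Set.range (algebraMap E M)) = ⊤) (W : ValuationSubring M)
    (hW : EtRam.Dominates B ((algebraMap L M).comp (algebraMap B L)) W)
    (f : integralClosure A E →+* W) (hf : ∀ x, (f x).1 = algebraMap E M x.1)
    (hfA : ∀ a : A, algebraMap E M (algebraMap A E a) = algebraMap L M (algebraMap B L (algebraMap A B a)))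
    (htW : f t ∈ maximalIdeal W) :
    maximalIdeal W = Ideal.span {f t} ∧
      letI := hP
      letI := Ideal.Quotient.field (Ideal.span {t})
      ∀ [Algebra (integralClosure A E ⧸ Ideal.span {t}) (ResidueField W)],
        (∀ x, algebraMap (integralClosure A E ⧸ Ideal.span {t}) (ResidueField W) (Ideal.Quotient.mk _ x) = residue W (f x)) →
        Algebra.IsGeometricallyReduced (integralClosure A E ⧸ Ideal.span {t}) (ResidueField W) := by
  obtain ⟨hw, hgW⟩ := hsol M hgen W hW
  let V := W.comap (algebraMap E M)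
  have hAV : EtRam.Dominates A (algebraMap A E) V := by
    refine EtRamH7.dominates_comap (algebraMap E M) ⟨fun a => ?_, fun a ha => ?_⟩
    · rw [RingHom.comp_apply, hfA]; exact hW.1 _
    · rw [RingHom.comp_apply, hfA]
      refine hW.2 _ ((mem_maximalIdeal _).2 fun hu => ?_)
      exact (mem_maximalIdeal _).1 ha (isUnit_of_map_unit (algebraMap A B) a hu)
  let j : integralClosure A E →+* V := RingHom.codRestrict (integralClosure A E).val.toRingHom V fun x => by
    show algebraMap E M x.1 ∈ W
    rw [← hf]; exact (f x).2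
  have hfj : ∀ x, EtRam.inclOfComap W (algebraMap E M) (j x) = f x := fun x => Subtype.ext (hf x).symm
  have htV : j t ∈ maximalIdeal V := fun hu =>
    (mem_maximalIdeal _).1 htW (hfj t ▸ hu.map (EtRam.inclOfComap W (algebraMap E M)))
  obtain ⟨hcentre, hmax, hsurj⟩ := centre_facts A K E π hπ V hAV j (fun _ => rfl) t hP ht0 htV
  letI : Algebra V W := (EtRam.inclOfComap W (algebraMap E M)).toAlgebra
  haveI : IsLocalHom (algebraMap V W) := EtRam.isLocalHom_inclOfComap W _
  refine ⟨?_, ?_⟩
  · have h2 : Ideal.map (algebraMap V W) (maximalIdeal V) = maximalIdeal W := hw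
    rw [← h2, hmax, Ideal.map_span, Set.image_singleton]
    exact congrArg (fun y => Ideal.span {y}) (hfj t)
  intro _ hcompat
  haveI := hP
  letI := Ideal.Quotient.field (Ideal.span {t})
  letI : Algebra (integralClosure A E ⧸ Ideal.span {t}) (ResidueField V) :=
    RingHom.toAlgebra (R := integralClosure A E ⧸ Ideal.span {t}) (S := ResidueField V)
      (Ideal.Quotient.lift _ ((residue V).comp j) fun s hs =>
        (residue_eq_zero_iff _).2 (Ideal.mem_comap.1 (hcentre.symm ▸ hs)))
  letI : Algebra (ResidueField V) (ResidueField W) := (ResidueField.map (EtRam.inclOfComap W (algebraMap E M))).toAlgebra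
  haveI : IsScalarTower (integralClosure A E ⧸ Ideal.span {t}) (ResidueField V) (ResidueField W) :=
    IsScalarTower.of_algebraMap_eq fun r => by
      obtain ⟨s, hs⟩ := Ideal.Quotient.mk_surjective r
      rw [← hs, hcompat]
      show residue W (f s) = residue W (EtRam.inclOfComap W (algebraMap E M) (j s))
      rw [hfj]
  exact (geomRed_iff_of_surjective (integralClosure A E ⧸ Ideal.span {t}) (ResidueField V) (ResidueField W)
    (fun r => (hsurj r).elim fun s hs => ⟨Ideal.Quotient.mk _ s, hs⟩)).1 hgW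

/-- The fibre of the integral closure in `L ⊗ E` of a solution `E` at a maximal ideal is geometrically reduced. -/
theorem fibre_geomRed [IsReduced (L ⊗[K] E)] (hsol : EtRam.IsSolution B K L E) (π : A) (hπ : Irreducible π)
    (t : integralClosure A E) (hP : (Ideal.span {t}).IsMaximal) (ht0 : t ≠ 0)
    (hπP : algebraMap A (integralClosure A E) π ∈ Ideal.span {t}) :
    letI := Ideal.Quotient.field (Ideal.span {t})
    letI := fibreAlgebra A B K L E t
    Algebra.IsGeometricallyReduced (integralClosure A E ⧸ Ideal.span {t})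
      (integralClosure B (L ⊗[K] E) ⧸ fibreIdeal A B K L E t) ∧
    IsReduced (integralClosure B (L ⊗[K] E) ⧸ fibreIdeal A B K L E t) := by
  classical
  letI := Ideal.Quotient.field (Ideal.span {t})
  letI := fibreAlgebra A B K L E t
  haveI := hP
  let T := L ⊗[K] E
  haveI : Module.Finite L T := inferInstance
  -- the pairs of a factor and a valuation ring above `t`
  let tT : T := (1 : L) ⊗ₜ[K] t.1
  have htE : t.1 ≠ 0 := fun h => ht0 (Subtype.ext h)
  letI fld : ∀ m : MaximalSpectrum T, Field (T ⧸ m.asIdeal) := fun m => Ideal.Quotient.field m.asIdeal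
  let Ix := Σ m : MaximalSpectrum T, { W : ValuationSubring (T ⧸ m.asIdeal) //
    (∀ b : B, algebraMap B (T ⧸ m.asIdeal) b ∈ W) ∧
      (∀ b ∈ maximalIdeal B, W.valuation (algebraMap B (T ⧸ m.asIdeal) b) < 1) ∧
      W.valuation (Ideal.Quotient.mk m.asIdeal tT) < 1 }
  have hintW : ∀ (m : MaximalSpectrum T) (W : ValuationSubring (T ⧸ m.asIdeal)),
      (∀ b : B, algebraMap B (T ⧸ m.asIdeal) b ∈ W) → ∀ u : integralClosure B T, Ideal.Quotient.mk m.asIdeal u.1 ∈ W := by
    intro m W hW u
    letI : Algebra B W := (RingHom.codRestrict (algebraMap B (T ⧸ m.asIdeal)) W hW).toAlgebra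
    haveI : IsScalarTower B W (T ⧸ m.asIdeal) := IsScalarTower.of_algebraMap_eq fun _ => rfl
    obtain ⟨y, hy⟩ := IsIntegrallyClosed.isIntegral_iff.1
      ((u.2.map (Ideal.Quotient.mkₐ B m.asIdeal)).tower_top (A := W))
    exact hy ▸ y.2
  let Φ : ∀ i : Ix, integralClosure B T →+* i.2.1 := fun i =>
    RingHom.codRestrict ((Ideal.Quotient.mk i.1.asIdeal).comp (integralClosure B T).val.toRingHom) i.2.1
      (hintW i.1 i.2.1 i.2.2.1)
  have hker : ∀ i : Ix, ∀ u ∈ fibreIdeal A B K L E t, ((residue i.2.1).comp (Φ i)) u = 0 := by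
    intro i u hu
    obtain ⟨c, rfl⟩ := Ideal.mem_span_singleton'.1 hu
    rw [map_mul]
    refine mul_eq_zero_of_right _ ((residue_eq_zero_iff _).2 ((i.2.1.valuation_lt_one_iff _).2 ?_))
    exact i.2.2.2.2
  let ψ : ∀ i : Ix, integralClosure B T ⧸ fibreIdeal A B K L E t →+* ResidueField i.2.1 := fun i =>
    Ideal.Quotient.lift _ _ (hker i)
  letI alg : ∀ i : Ix, Algebra (integralClosure A E ⧸ Ideal.span {t}) (ResidueField i.2.1) := fun i =>
    ((ψ i).comp (algebraMap (integralClosure A E ⧸ Ideal.span {t}) (integralClosure B T ⧸ fibreIdeal A B K L E t))).toAlgebra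
  letI algE : ∀ m : MaximalSpectrum T, Algebra E (T ⧸ m.asIdeal) := fun m =>
    RingHom.toAlgebra (R := E) (S := T ⧸ m.asIdeal)
      ((Ideal.Quotient.mk m.asIdeal).comp (Algebra.TensorProduct.includeRight : E →ₐ[K] T).toRingHom)
  haveI : ∀ m : MaximalSpectrum T, IsScalarTower K E (T ⧸ m.asIdeal) := fun m =>
    IsScalarTower.of_algebraMap_eq fun k => by
      show Ideal.Quotient.mk m.asIdeal (algebraMap K T k) =
        Ideal.Quotient.mk m.asIdeal ((1 : L) ⊗ₜ[K] algebraMap K E k)
      rw [show (1 : L) ⊗ₜ[K] algebraMap K E k = algebraMap K T k from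
        (Algebra.TensorProduct.includeRight : E →ₐ[K] T).commutes k]
  have hgen : ∀ m : MaximalSpectrum T, Algebra.adjoin L (Set.range (algebraMap E (T ⧸ m.asIdeal))) = ⊤ := by
    intro m
    rw [eq_top_iff]
    rintro y -
    obtain ⟨z, rfl⟩ := Ideal.Quotient.mk_surjective y
    induction z using TensorProduct.induction_on with
    | zero => rw [map_zero]; exact zero_mem _
    | tmul l e =>
      have : Ideal.Quotient.mk m.asIdeal (l ⊗ₜ[K] e) = l • algebraMap E (T ⧸ m.asIdeal) e := by
        show _ = Ideal.Quotient.mkₐ L m.asIdeal (l • ((1 : L) ⊗ₜ[K] e))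
        rw [TensorProduct.smul_tmul', smul_eq_mul, mul_one]
        rfl
      rw [this]
      exact Subalgebra.smul_mem _ (Algebra.subset_adjoin (Set.mem_range_self e)) l
    | add a b ha hb => rw [map_add]; exact add_mem ha hb
  have hfA : ∀ (m : MaximalSpectrum T) (a : A), algebraMap E (T ⧸ m.asIdeal) (algebraMap A E a) =
      algebraMap L (T ⧸ m.asIdeal) (algebraMap B L (algebraMap A B a)) := fun m a => by
    rw [← IsScalarTower.algebraMap_apply B L (T ⧸ m.asIdeal)]
    exact congrArg (Ideal.Quotient.mk m.asIdeal) (one_tmul_algebraMap A B K L E a)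
  have hdom : ∀ i : Ix, EtRam.Dominates B ((algebraMap L (T ⧸ i.1.asIdeal)).comp (algebraMap B L)) i.2.1 := fun i =>
    ⟨fun b => by rw [RingHom.comp_apply, ← IsScalarTower.algebraMap_apply]; exact i.2.2.1 b,
      fun b hb => by rw [RingHom.comp_apply, ← IsScalarTower.algebraMap_apply]; exact i.2.2.2.1 b hb⟩
  have hgr : ∀ i : Ix, Algebra.IsGeometricallyReduced (integralClosure A E ⧸ Ideal.span {t}) (ResidueField i.2.1) :=
    fun i => (above_facts A B K L E hsol π hπ t hP ht0 (T ⧸ i.1.asIdeal) (hgen i.1) i.2.1 (hdom i)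
      ((Φ i).comp (closureMap A B K L E)) (fun _ => rfl) (hfA i.1)
      ((i.2.1.valuation_lt_one_iff _).2 i.2.2.2.2)).2 fun _ => rfl
  haveI := hgr
  let φ : ∀ i : Ix, (integralClosure B T ⧸ fibreIdeal A B K L E t) →ₐ[integralClosure A E ⧸ Ideal.span {t}]
      ResidueField i.2.1 := fun i => { ψ i with commutes' := fun _ => rfl }
  have hinj : ∀ a : integralClosure B T ⧸ fibreIdeal A B K L E t, (∀ i, φ i a = 0) → a = 0 := by
    intro a ha
    obtain ⟨u, rfl⟩ := Ideal.Quotient.mk_surjective a
    rw [Ideal.Quotient.eq_zero_iff_mem, Ideal.mem_span_singleton']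
    let tinv : T := (1 : L) ⊗ₜ[K] t.1⁻¹
    have htt : tT * tinv = 1 := by
      show ((1 : L) ⊗ₜ[K] t.1) * ((1 : L) ⊗ₜ[K] t.1⁻¹) = 1
      rw [Algebra.TensorProduct.tmul_mul_tmul, one_mul, mul_inv_cancel₀ htE]
      rfl
    have hz : IsIntegral B (u.1 * tinv) := by
      refine isIntegral_of_forall_maximal B L T _ fun m hm => ?_
      refine isIntegral_of_forall_valuationSubring B L (T ⧸ (⟨m, hm⟩ : MaximalSpectrum T).asIdeal) _ fun W hW => ?_
      let m' : MaximalSpectrum T := ⟨m, hm⟩
      have hBW : ∀ b : B, algebraMap B (T ⧸ m'.asIdeal) b ∈ W := fun b => by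
        rw [IsScalarTower.algebraMap_apply B L]; exact hW.1 b
      have huW := hintW m' W hBW u
      have htW := hintW m' W hBW (closureMap A B K L E t)
      have hprod : Ideal.Quotient.mk m'.asIdeal tT * Ideal.Quotient.mk m'.asIdeal tinv = 1 := by
        rw [← map_mul, htt, map_one]
      have hinvt := eq_inv_of_mul_eq_one_right hprod
      by_cases ht1 : W.valuation (Ideal.Quotient.mk m'.asIdeal tT) < 1
      · let i : Ix := ⟨m', W, hBW, fun b hb => by rw [IsScalarTower.algebraMap_apply B L]; exact hW.2 b hb, ht1⟩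
        have h0 : residue W ⟨_, huW⟩ = 0 := ha i
        have hWmax := (above_facts A B K L E hsol π hπ t hP ht0 (T ⧸ m'.asIdeal) (hgen m') W hW
          ((Φ i).comp (closureMap A B K L E)) (fun _ => rfl) (hfA m') ((W.valuation_lt_one_iff _).2 ht1)).1
        have hmem : (⟨_, huW⟩ : W) ∈ Ideal.span {(⟨_, htW⟩ : W)} := by
          have h1 := (residue_eq_zero_iff _).1 h0
          rw [hWmax] at h1
          exact h1
        obtain ⟨c, hc⟩ := Ideal.mem_span_singleton'.1 hmem
        have hc' : c.1 * Ideal.Quotient.mk m'.asIdeal tT = Ideal.Quotient.mk m'.asIdeal u.1 := congrArg Subtype.val hc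
        show Ideal.Quotient.mk m'.asIdeal (u.1 * tinv) ∈ W
        rw [map_mul, ← hc', mul_assoc, hprod, mul_one]
        exact c.2
      · show Ideal.Quotient.mk m'.asIdeal (u.1 * tinv) ∈ W
        rw [map_mul]
        refine W.mul_mem _ _ huW ?_
        rw [hinvt]
        rcases W.mem_or_inv_mem (Ideal.Quotient.mk m'.asIdeal tT)⁻¹ with h | h
        · exact h
        · refine (W.valuation_le_one_iff _).1 ?_
          rw [map_inv₀]
          exact inv_le_one_of_one_le₀ (not_lt.1 ht1)
    refine ⟨⟨_, hz⟩, Subtype.ext ?_⟩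
    show u.1 * tinv * tT = u.1
    rw [mul_assoc, mul_comm tinv, htt, mul_one]
  have hres := GeomRed21.isGeometricallyReduced_of_jointly_injective (k := integralClosure A E ⧸ Ideal.span {t})
    (A := integralClosure B T ⧸ fibreIdeal A B K L E t) φ hinj
  refine ⟨hres, ⟨fun a ha => hinj a fun i => ?_⟩⟩
  exact IsReduced.eq_zero _ (ha.map (φ i))

end Groth.Agent.PerturbH7
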