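import Groth.Agent.Lib.PerturbH7.Source

/-!
# Stability of solutions
-/

universe u

open IsLocalRing
open scoped TensorProduct

namespace Groth.Agent.PerturbH7

variable {A B K L : Type u} [CommRing A] [IsDomain A] [IsDiscreteValuationRing A]
    [CommRing B] [IsDomain B] [IsDiscreteValuationRing B] [Algebra A B] [IsLocalHom (algebraMap A B)]
    [Field K] [Field L] [Algebra A K] [IsFractionRing A K] [Algebra B L] [IsFractionRing B L]
    [Algebra K L] [Algebra A L] [IsScalarTower A K L] [IsScalarTower A B L]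
    {E E' : Type u} [Field E] [Field E'] [Algebra K E] [Algebra K E'] [FiniteDimensional K E] [FiniteDimensional K E']
    [Algebra A E] [IsScalarTower A K E] [Algebra A E'] [IsScalarTower A K E']

/-- The extension of `ψ` to `L ⊗ E`. -/
noncomputable def extend (ψ : E ≃ₗ[K] E') : (L ⊗[K] E) ≃ₗ[B] (L ⊗[K] E') :=
  (TensorProduct.AlgebraTensorModule.congr (LinearEquiv.refl L L) ψ).restrictScalars B

omit [IsDomain B] [IsDiscreteValuationRing B] [IsFractionRing B L] [FiniteDimensional K E] [FiniteDimensional K E'] in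
theorem extend_tmul (ψ : E ≃ₗ[K] E') (l : L) (x : E) : extend (B := B) ψ (l ⊗ₜ[K] x) = l ⊗ₜ[K] ψ x := rfl

omit [IsDiscreteValuationRing B] [IsDomain B] in
theorem isArtinianRing_of_killed (R S : Type u) [CommRing R] [IsDomain R] [IsDiscreteValuationRing R] [CommRing S]
    [Algebra R S] [Module.Finite R S] (ϖ : R) (h0 : ϖ ≠ 0) (h : algebraMap R S ϖ = 0) : IsArtinianRing S := by
  haveI : IsNoetherianRing S := IsNoetherianRing.of_finite R S
  haveI : Algebra.IsIntegral R S := ⟨fun y => IsIntegral.of_finite R y⟩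
  haveI : Ring.KrullDimLE 0 S := Ring.krullDimLE_zero_iff.2 fun Q hQ => by
    refine Ideal.isMaximal_of_isIntegral_of_isMaximal_comap (R := R) Q ?_
    haveI : (Q.comap (algebraMap R S)).IsPrime := Ideal.comap_isPrime _ Q
    refine Ideal.IsPrime.isMaximal inferInstance fun hb => h0 ?_
    have hmem : ϖ ∈ Q.comap (algebraMap R S) := by
      rw [Ideal.mem_comap, h]; exact Q.zero_mem
    rwa [hb, Ideal.mem_bot] at hmem
  exact IsNoetherianRing.isArtinianRing_of_krullDimLE_zero

theorem isSolution_of_approx (ψ : E ≃ₗ[K] E') (π : A) (hπ : Irreducible π) (hπB : algebraMap A B π ≠ 0)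
    (hA : Approx π (ψ.restrictScalars A)) (hB : Approx (algebraMap A B π) (extend (L := L) (B := B) ψ))
    [IsReduced (L ⊗[K] E)] (hsol : EtRam.IsSolution B K L E) : EtRam.IsSolution B K L E' := by
  classical
  intro M _ _ _ _ _ _ hgen W hW
  have hπm : π ∈ maximalIdeal A := (mem_maximalIdeal π).2 hπ.not_isUnit
  have hπBm : algebraMap A B π ∈ maximalIdeal B :=
    (mem_maximalIdeal _).2 fun hu => hπ.not_isUnit (isUnit_of_map_unit (algebraMap A B) π hu)
  letI : Algebra B M := ((algebraMap L M).comp (algebraMap B L)).toAlgebra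
  haveI : IsScalarTower B L M := IsScalarTower.of_algebraMap_eq fun _ => rfl
  let ev : L ⊗[K] E' →ₐ[L] M :=
    Algebra.TensorProduct.lift (Algebra.ofId L M) (IsScalarTower.toAlgHom K E' M) fun _ _ => .all _ _
  have hev : ∀ (l : L) (x : E'), ev (l ⊗ₜ[K] x) = algebraMap L M l * algebraMap E' M x := fun l x =>
    Algebra.TensorProduct.lift_tmul ..
  have hevsurj : Function.Surjective ev := by
    intro y
    have hy : y ∈ Algebra.adjoin L (Set.range (algebraMap E' M)) := hgen ▸ Algebra.mem_top
    refine (Algebra.adjoin_le (S := ev.range) ?_) hy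
    rintro _ ⟨x, rfl⟩
    exact ⟨1 ⊗ₜ x, by rw [AlgHom.toRingHom_eq_coe, RingHom.coe_coe, hev, map_one, one_mul]⟩
  haveI : Module.Finite L M := Module.Finite.of_surjective ev.toLinearMap hevsurj
  haveI := EtRamH7.dvr_of_dominates B L M _ rfl W hW
  let V := W.comap (algebraMap E' M)
  have hevA : ∀ a : A, algebraMap E' M (algebraMap A E' a) = algebraMap L M (algebraMap B L (algebraMap A B a)) := by
    intro a
    have h1 := congrArg ev (one_tmul_algebraMap A B K L E' a)
    rw [hev, map_one, one_mul] at h1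
    rw [h1, IsScalarTower.algebraMap_apply B L (L ⊗[K] E'), AlgHom.commutes]
  have hAV : EtRam.Dominates A (algebraMap A E') V := by
    refine EtRamH7.dominates_comap (algebraMap E' M) ⟨fun a => ?_, fun a ha => ?_⟩
    · rw [RingHom.comp_apply, hevA]; exact hW.1 _
    · rw [RingHom.comp_apply, hevA]
      exact hW.2 _ ((mem_maximalIdeal _).2 fun hu => (mem_maximalIdeal _).1 ha (isUnit_of_map_unit (algebraMap A B) a hu))
  haveI := EtRamH7.dvr_of_dominates A K E' (algebraMap A E') (IsScalarTower.algebraMap_eq A K E') V hAV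
  letI : Algebra B W := (RingHom.codRestrict _ W hW.1).toAlgebra
  haveI : IsScalarTower B W M := IsScalarTower.of_algebraMap_eq fun _ => rfl
  have hSW : ∀ s : hB.order, ev s.1 ∈ W := fun s => by
    obtain ⟨y, hy⟩ := IsIntegrallyClosed.isIntegral_iff.1
      (((hB.isIntegral_order s.1 s.2).map (ev.restrictScalars B)).tower_top (A := W))
    exact hy ▸ y.2
  let Φ : hB.order →+* W := RingHom.codRestrict (ev.toRingHom.comp hB.order.val.toRingHom) W hSW
  have hAB : ∀ x : integralClosure A E, (1 : L) ⊗ₜ[K] ψ x.1 ∈ hB.order := fun x =>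
    ⟨_, isIntegral_one_tmul A B K L E x.2, extend_tmul ψ 1 x.1⟩
  have hVmem : ∀ s : hA.order, s.1 ∈ V := by
    rintro ⟨_, x, hx, rfl⟩
    show algebraMap E' M (ψ x) ∈ W
    have h1 : ev ((1 : L) ⊗ₜ[K] ψ x) ∈ W := hSW ⟨_, hAB ⟨x, hx⟩⟩
    rwa [hev, map_one, one_mul] at h1
  let jA : hA.order →+* V := RingHom.codRestrict hA.order.val.toRingHom V hVmem
  let img : integralClosure A E → hA.order := fun x => ⟨ψ x.1, hA.apply_mem x.2⟩
  have hπV : algebraMap A hA.order π ∈ (maximalIdeal V).comap jA :=
    Ideal.mem_comap.2 ((V.valuation_lt_one_iff _).2 (hAV.2 π hπm))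
  have himg_mul : ∀ x y, residue V (jA (img (x * y))) = residue V (jA (img x)) * residue V (jA (img y)) := by
    intro x y
    obtain ⟨w, hw, he⟩ := hA.mul x.1 y.1 x.2 y.2
    have h1 : img (x * y) = img x * img y + algebraMap A hA.order π * (algebraMap A hA.order π * img ⟨w, hw⟩) := by
      refine Subtype.ext ?_
      show ψ (x.1 * y.1) = ψ x.1 * ψ y.1 + algebraMap A E' π * (algebraMap A E' π * ψ w)
      rw [← mul_assoc (algebraMap A E' π), ← map_mul (algebraMap A E'), ← sq]
      exact he
    rw [h1, map_add, map_add, map_mul, map_mul, map_mul jA (algebraMap A hA.order π), map_mul (residue V),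
      (residue_eq_zero_iff _).2 (Ideal.mem_comap.1 hπV), zero_mul, add_zero]
  let θ₀ : integralClosure A E →+* ResidueField V :=
    { toFun := fun x => residue V (jA (img x))
      map_one' := by
        have : img 1 = 1 := Subtype.ext hA.map_one
        rw [this, map_one, map_one]
      map_mul' := himg_mul
      map_zero' := by
        have : img 0 = 0 := Subtype.ext (map_zero ψ)
        rw [this, map_zero, map_zero]
      map_add' := fun x y => by
        have : img (x + y) = img x + img y := Subtype.ext (map_add ψ _ _)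
        rw [this, map_add, map_add] }
  haveI := hA.fin
  let P : Ideal (integralClosure A E) := RingHom.ker θ₀
  haveI hPprime : P.IsPrime := RingHom.ker_isPrime θ₀
  have hπP : algebraMap A (integralClosure A E) π ∈ P := by
    refine (residue_eq_zero_iff _).2 ?_
    have : img (algebraMap A _ π) = algebraMap A hA.order π := Subtype.ext (hA.map_algebraMap π)
    show jA (img _) ∈ _
    rw [this]
    exact Ideal.mem_comap.1 hπV
  have hπ0 : algebraMap A (integralClosure A E) π ≠ 0 := fun h => by
    have h1 : algebraMap A E π = 0 := congrArg Subtype.val h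
    rw [IsScalarTower.algebraMap_apply A K E, map_eq_zero] at h1
    exact hπ.ne_zero ((map_eq_zero_iff _ (IsFractionRing.injective A K)).1 h1)
  haveI := isPID_integralClosure A K E
  obtain ⟨t, ht⟩ := (IsPrincipalIdealRing.principal P).principal
  change P = Ideal.span {t} at ht
  have ht0 : t ≠ 0 := fun h => hπ0 (by
    have := ht ▸ hπP
    rwa [h, Ideal.span_singleton_eq_bot.2 rfl, Ideal.mem_bot] at this)
  haveI hPmax : (Ideal.span {t}).IsMaximal := ht ▸ IsPrime.to_maximal_ideal (fun h => hπ0 (by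
    have := hπP
    rwa [h, Ideal.mem_bot] at this))
  obtain ⟨u, hu⟩ := Ideal.mem_span_singleton'.1 (ht ▸ hπP)
  obtain ⟨vA, hvA, htv⟩ := hA.dvd_uniformizer (ϖ := π) hπm t.2 u.2 (by
    rw [mul_comm]; exact (congrArg Subtype.val hu).symm)
  -- the uniformizer of `V`
  have hdvdA : ∀ s : hA.order, jA s ∈ maximalIdeal V → ∃ s', jA s = jA (img t) * jA s' := by
    rintro ⟨_, x, hx, rfl⟩ hs
    have hxP : (⟨x, hx⟩ : integralClosure A E) ∈ P := (residue_eq_zero_iff _).2 hs
    rw [ht] at hxP
    obtain ⟨c, hc⟩ := Ideal.mem_span_singleton'.1 hxP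
    obtain ⟨z, hz, hze⟩ := hA.map_mul_dvd t.2 c.2 hvA htv
    refine ⟨⟨z, hz⟩, Subtype.ext ?_⟩
    show ψ x = ψ t.1 * z
    rw [show x = t.1 * c.1 by rw [mul_comm]; exact (congrArg Subtype.val hc).symm]
    exact hze
  have htV : jA (img t) ∈ maximalIdeal V := (residue_eq_zero_iff _).1
    (show t ∈ P by rw [ht]; exact Ideal.subset_span rfl)
  obtain ⟨hVmax, hVsurj⟩ := uniformizer_of_subring V jA (fun y => by
      obtain ⟨k, hk⟩ := exists_pow_isIntegral A K E hπm hπ.ne_zero (ψ.symm y.1)
      refine ⟨⟨_, hA.apply_mem hk⟩, algebraMap A _ π ^ k, fun h => ?_, Subtype.ext ?_⟩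
      · have h1 : algebraMap A E' π ^ k = 0 := congrArg Subtype.val h
        have h2 := eq_zero_of_pow_eq_zero h1
        rw [IsScalarTower.algebraMap_apply A K E', map_eq_zero] at h2
        exact hπ.ne_zero ((map_eq_zero_iff _ (IsFractionRing.injective A K)).1 h2)
      · show y.1 * algebraMap A E' π ^ k = ψ (algebraMap A E π ^ k * ψ.symm y.1)
        rw [← map_pow, ← map_pow, IsScalarTower.algebraMap_apply A K E, IsScalarTower.algebraMap_apply A K E',
          ← Algebra.smul_def, map_smul, ψ.apply_symm_apply, Algebra.smul_def, mul_comm])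
    (img t) (fun h => ht0 (Subtype.ext (ψ.injective (by
      have h1 : ψ t.1 = 0 := congrArg Subtype.val h
      rw [h1]; exact (map_zero ψ).symm)))) htV hdvdA
    (by
      rintro ⟨_, x, hx, rfl⟩ hs
      have hxP : (⟨x, hx⟩ : integralClosure A E) ∉ Ideal.span {t} := by
        rw [← ht]
        exact fun h => hs ((residue_eq_zero_iff _).1 h)
      obtain ⟨c, i, hi, hci⟩ := hPmax.exists_inv hxP
      refine ⟨img c, ?_⟩
      have hi0 : θ₀ i = 0 := (ht.symm ▸ hi : i ∈ P)
      show θ₀ ⟨x, hx⟩ * θ₀ c = 1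
      rw [← map_one θ₀, ← hci, map_add θ₀ (c * _), hi0, add_zero, map_mul, mul_comm])
  -- the residue field of `V`
  letI := Ideal.Quotient.field (Ideal.span {t})
  let e₀ : integralClosure A E ⧸ Ideal.span {t} →+* ResidueField V :=
    Ideal.Quotient.lift _ θ₀ fun x hx => (ht.symm ▸ hx : x ∈ P)
  have hebij : Function.Bijective e₀ := ⟨e₀.injective, fun r => by
    obtain ⟨⟨_, x, hx, rfl⟩, hs⟩ := hVsurj r
    exact ⟨Ideal.Quotient.mk _ ⟨x, hx⟩, hs⟩⟩
  let e := RingEquiv.ofBijective e₀ hebij
  letI := fibreAlgebra A B K L E t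
  obtain ⟨hgT, hrT⟩ := fibre_geomRed A B K L E hsol π hπ t hPmax ht0 (ht ▸ hπP)
  haveI := hgT
  haveI := hrT
  let T := integralClosure B (L ⊗[K] E) ⧸ fibreIdeal A B K L E t
  letI : Algebra (ResidueField V) T :=
    RingHom.toAlgebra (R := ResidueField V) (S := T)
      ((algebraMap (integralClosure A E ⧸ Ideal.span {t}) T).comp e.symm.toRingHom)
  letI : Algebra (integralClosure A E ⧸ Ideal.span {t}) (ResidueField V) := e.toRingHom.toAlgebra
  haveI : IsScalarTower (integralClosure A E ⧸ Ideal.span {t}) (ResidueField V) T :=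
    IsScalarTower.of_algebraMap_eq fun r => by
      show _ = algebraMap _ T (e.symm (e r))
      rw [e.symm_apply_apply]
  haveI : Algebra.IsGeometricallyReduced (ResidueField V) T :=
    (geomRed_iff_of_surjective (integralClosure A E ⧸ Ideal.span {t}) (ResidueField V) T e.surjective).2 hgT
  -- data upstairs
  let tB := closureMap A B K L E t
  have hvB : (1 : L) ⊗ₜ[K] vA ∈ hB.order := by
    obtain ⟨x, hx, rfl⟩ := hvA
    exact hAB ⟨x, hx⟩
  have htvB : algebraMap B (L ⊗[K] E') (algebraMap A B π) = extend (B := B) ψ tB.1 * ((1 : L) ⊗ₜ[K] vA) := by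
    rw [coe_closureMap, extend_tmul, Algebra.TensorProduct.tmul_mul_tmul, one_mul, ← one_tmul_algebraMap A B K L E' π, htv]
    rfl
  have hπfib : algebraMap B (integralClosure B (L ⊗[K] E)) (algebraMap A B π) ∈ fibreIdeal A B K L E t := by
    refine Ideal.mem_span_singleton'.2 ⟨closureMap A B K L E u, ?_⟩
    rw [← map_mul, hu]
    exact Subtype.ext (one_tmul_algebraMap A B K L E π)
  -- the comparison map
  have hq_mul : ∀ x y : hB.order,
      (extend (B := B) (L := L) ψ).symm (x.1 * y.1) ∈ integralClosure B (L ⊗[K] E) ∧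
      ∀ (hx : (extend (B := B) (L := L) ψ).symm x.1 ∈ integralClosure B (L ⊗[K] E))
        (hy : (extend (B := B) (L := L) ψ).symm y.1 ∈ integralClosure B (L ⊗[K] E))
        (hxy : (extend (B := B) (L := L) ψ).symm (x.1 * y.1) ∈ integralClosure B (L ⊗[K] E)),
        Ideal.Quotient.mk (fibreIdeal A B K L E t) ⟨_, hxy⟩ =
          Ideal.Quotient.mk (fibreIdeal A B K L E t) (⟨_, hx⟩ * ⟨_, hy⟩) := by
    intro x y
    obtain ⟨a, ha, hax⟩ := x.2
    obtain ⟨b, hb, hby⟩ := y.2
    obtain ⟨w, hw, he⟩ := hB.mul a b ha hb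
    change extend ψ a = x.1 at hax
    change extend ψ b = y.1 at hby
    have h1 : (extend (B := B) (L := L) ψ).symm (x.1 * y.1) =
        a * b - algebraMap B (L ⊗[K] E) (algebraMap A B π ^ 2) * w := by
      rw [LinearEquiv.symm_apply_eq, map_sub, hB.map_algebraMap_mul, he, hax, hby]
      ring
    refine ⟨h1 ▸ (integralClosure B (L ⊗[K] E)).sub_mem ((integralClosure B (L ⊗[K] E)).mul_mem ha hb)
      ((integralClosure B (L ⊗[K] E)).mul_mem (Subalgebra.algebraMap_mem _ _) hw), fun hx hy hxy => ?_⟩
    rw [Ideal.Quotient.eq]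
    have : (⟨_, hxy⟩ : integralClosure B (L ⊗[K] E)) - ⟨_, hx⟩ * ⟨_, hy⟩ =
        -(algebraMap B _ (algebraMap A B π ^ 2) * ⟨w, hw⟩) := by
      refine Subtype.ext ?_
      show (extend (B := B) (L := L) ψ).symm (x.1 * y.1) -
        (extend (B := B) (L := L) ψ).symm x.1 * (extend (B := B) (L := L) ψ).symm y.1 = -(_ * w)
      rw [h1, ← hax, ← hby, LinearEquiv.symm_apply_apply, LinearEquiv.symm_apply_apply]
      simp only [Subalgebra.coe_algebraMap]
      ring
    rw [this, map_pow, sq, mul_assoc]
    exact neg_mem (Ideal.mul_mem_right _ _ hπfib)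
  have hpre : ∀ x : hB.order, (extend (B := B) (L := L) ψ).symm x.1 ∈ integralClosure B (L ⊗[K] E) := by
    rintro ⟨_, a, ha, rfl⟩
    show (extend (B := B) (L := L) ψ).symm (extend ψ a) ∈ _
    rw [LinearEquiv.symm_apply_apply]
    exact ha
  let q : hB.order →+* T :=
    { toFun := fun x => Ideal.Quotient.mk _ ⟨_, hpre x⟩
      map_one' := by
        rw [← map_one (Ideal.Quotient.mk (fibreIdeal A B K L E t))]
        congr 1
        exact Subtype.ext ((LinearEquiv.symm_apply_eq _).2 hB.map_one.symm)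
      map_mul' := fun x y => ((hq_mul x y).2 (hpre x) (hpre y) (hpre (x * y))).trans (map_mul _ _ _)
      map_zero' := by
        rw [← map_zero (Ideal.Quotient.mk (fibreIdeal A B K L E t))]
        congr 1
        all_goals exact Subtype.ext (map_zero (extend (B := B) (L := L) ψ).symm)
      map_add' := fun x y => by
        rw [← map_add]
        congr 1
        exact Subtype.ext (map_add (extend (B := B) (L := L) ψ).symm x.1 y.1) }
  letI : Algebra V W := (EtRam.inclOfComap W (algebraMap E' M)).toAlgebra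
  haveI : IsLocalHom (algebraMap V W) := EtRam.isLocalHom_inclOfComap W _
  letI : Algebra (ResidueField V) (ResidueField W) := (ResidueField.map (EtRam.inclOfComap W (algebraMap E' M))).toAlgebra
  let pre : integralClosure B (L ⊗[K] E) → hB.order := fun a => ⟨extend (B := B) (L := L) ψ a.1, hB.apply_mem a.2⟩
  have hq_pre : ∀ a, q (pre a) = Ideal.Quotient.mk _ a := fun a =>
    congrArg (Ideal.Quotient.mk _) (Subtype.ext (LinearEquiv.symm_apply_apply _ _))
  have hpre' : ∀ s, pre ⟨_, hpre s⟩ = s := fun s => Subtype.ext (LinearEquiv.apply_symm_apply _ _)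
  have hΦ1 : ∀ x : integralClosure A E, Φ (pre (closureMap A B K L E x)) = algebraMap V W (jA (img x)) := fun x => by
    refine Subtype.ext ?_
    show ev (extend (B := B) (L := L) ψ ((1 : L) ⊗ₜ[K] x.1)) = algebraMap E' M (ψ x.1)
    rw [extend_tmul, hev, map_one, one_mul]
  have hdvdB : ∀ s, q s = 0 → ∃ r, Φ s = algebraMap V W (jA (img t)) * Φ r := by
    intro s hs
    obtain ⟨c, hc⟩ := Ideal.mem_span_singleton'.1 (Ideal.Quotient.eq_zero_iff_mem.1 hs)
    obtain ⟨z, hz, hze⟩ := hB.map_mul_dvd tB.2 c.2 hvB htvB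
    refine ⟨⟨z, hz⟩, ?_⟩
    rw [← hΦ1, ← map_mul]
    refine congrArg Φ (Subtype.ext ?_)
    show s.1 = extend (B := B) (L := L) ψ tB.1 * z
    rw [← hze, show tB.1 * c.1 = (extend (B := B) (L := L) ψ).symm s.1 by
      rw [mul_comm]; exact congrArg Subtype.val hc, LinearEquiv.apply_symm_apply]
  have hτW : algebraMap V W (jA (img t)) ∈ maximalIdeal W :=
    (mem_maximalIdeal _).2 fun hu' => (mem_maximalIdeal _).1 htV (isUnit_of_map_unit (algebraMap V W) _ hu')
  have hwd : ∀ a ∈ fibreIdeal A B K L E t, residue W (Φ (pre a)) = 0 := by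
    intro a ha
    obtain ⟨r, hr⟩ := hdvdB (pre a) (by rw [hq_pre]; exact Ideal.Quotient.eq_zero_iff_mem.2 ha)
    rw [hr, map_mul, (residue_eq_zero_iff _).2 hτW, zero_mul]
  let ψB : integralClosure B (L ⊗[K] E) →+* ResidueField W :=
    { toFun := fun a => residue W (Φ (pre a))
      map_one' := by
        have : pre 1 = 1 := Subtype.ext hB.map_one
        rw [this, map_one, map_one]
      map_mul' := fun a b => by
        have h : q (pre (a * b) - pre a * pre b) = 0 := by
          rw [map_sub, map_mul, hq_pre, hq_pre, hq_pre, map_mul, sub_self]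
        obtain ⟨r, hr⟩ := hdvdB _ h
        have h2 : residue W (Φ (pre (a * b) - pre a * pre b)) = 0 := by
          rw [hr, map_mul, (residue_eq_zero_iff _).2 hτW, zero_mul]
        rw [map_sub, map_sub, sub_eq_zero, map_mul Φ, map_mul] at h2
        exact h2
      map_zero' := by
        have : pre 0 = 0 := Subtype.ext (map_zero (extend (B := B) (L := L) ψ))
        rw [this, map_zero, map_zero]
      map_add' := fun a b => by
        have : pre (a + b) = pre a + pre b := Subtype.ext (map_add (extend (B := B) (L := L) ψ) _ _)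
        rw [this, map_add, map_add] }
  let ψT : T →ₐ[ResidueField V] ResidueField W :=
    { Ideal.Quotient.lift (fibreIdeal A B K L E t) ψB hwd with
      commutes' := fun r => by
        obtain ⟨r', rfl⟩ := e.surjective r
        obtain ⟨x, rfl⟩ := Ideal.Quotient.mk_surjective r'
        show Ideal.Quotient.lift (fibreIdeal A B K L E t) ψB hwd (algebraMap _ T (e.symm (e _))) = _
        rw [e.symm_apply_apply]
        show residue W (Φ (pre (closureMap A B K L E x))) = _
        rw [hΦ1]
        rfl }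
  -- the fibre is Artinian
  haveI : Module.Finite B (integralClosure B (L ⊗[K] E)) := hB.fin
  haveI : IsArtinianRing T :=
    isArtinianRing_of_killed B (integralClosure B (L ⊗[K] E) ⧸ fibreIdeal A B K L E t) (algebraMap A B π) hπB
      (Ideal.Quotient.eq_zero_iff_mem.2 hπfib)
  have hinjVW : Function.Injective (algebraMap V W) :=
    fun a b h => Subtype.ext ((algebraMap E' M).injective (congrArg Subtype.val h))
  have hqs : Function.Surjective q := fun y =>
    (Ideal.Quotient.mk_surjective (I := fibreIdeal A B K L E t) y).elim fun a ha => ⟨pre a, (hq_pre a).trans ha⟩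
  refine EtRamH7.fibre_criterion (V := V) (W := W) (S := hB.order) (T := T) hinjVW (jA (img t)) (IsDiscreteValuationRing.irreducible_iff_uniformizer _ |>.2 hVmax) Φ q
    hqs ψT (fun s => ?_) hdvdB (fun y => ?_)
  · show residue W (Φ (pre ⟨_, hpre s⟩)) = _
    rw [hpre']
  · obtain ⟨z, hz⟩ := hevsurj y.1
    obtain ⟨k, hk⟩ := exists_pow_isIntegral B L (L ⊗[K] E) hπBm hπB ((extend (B := B) (L := L) ψ).symm z)
    refine ⟨pre ⟨_, hk⟩, algebraMap B _ (algebraMap A B π ^ k), fun h => hπB ?_, Subtype.ext ?_⟩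
    · have h1 : ev (algebraMap B (L ⊗[K] E') (algebraMap A B π ^ k)) = 0 := congrArg Subtype.val h
      rw [IsScalarTower.algebraMap_apply B L (L ⊗[K] E'), AlgHom.commutes, map_eq_zero,
        map_eq_zero_iff _ (IsFractionRing.injective B L)] at h1
      exact eq_zero_of_pow_eq_zero h1
    · show y.1 * ev (algebraMap B (L ⊗[K] E') (algebraMap A B π ^ k)) =
        ev (extend (B := B) (L := L) ψ (algebraMap B _ (algebraMap A B π) ^ k * (extend (B := B) (L := L) ψ).symm z))
      rw [← map_pow (algebraMap B (L ⊗[K] E)), hB.map_algebraMap_mul, LinearEquiv.apply_symm_apply, map_mul, hz,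
        mul_comm]

end Groth.Agent.PerturbH7
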